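import Mathlib

/-! A concrete field with four elements, `0, 1, ω, ω²`, with table-defined operations. -/

set_option autoImplicit false
set_option linter.all false

namespace Cfsg.Agent.Helper19.Sp4

/-- the field with four elements. -/
inductive F4 : Type
  | o | i | w | v
  deriving DecidableEq

namespace F4

instance : Fintype F4 where
  elems := {o, i, w, v}
  complete := by intro x; cases x <;> decide

def add : F4 → F4 → F4
  | o, x => x
  | x, o => x
  | i, i => o | i, w => v | i, v => w
  | w, i => v | w, w => o | w, v => i
  | v, i => w | v, w => i | v, v => o

def mul : F4 → F4 → F4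
  | o, _ => o
  | _, o => o
  | i, x => x
  | x, i => x
  | w, w => v | w, v => i
  | v, w => i | v, v => w

def inv : F4 → F4
  | o => o | i => i | w => v | v => w

instance : Zero F4 := ⟨o⟩
instance : One F4 := ⟨i⟩
instance : Add F4 := ⟨add⟩
instance : Mul F4 := ⟨mul⟩
instance : Neg F4 := ⟨id⟩
instance : Inv F4 := ⟨inv⟩

instance : CommRing F4 where
  add_assoc := by decide
  zero_add := by decide
  add_zero := by decide
  add_comm := by decide
  neg_add_cancel := by decide
  mul_assoc := by decide
  one_mul := by decide
  mul_one := by decide
  left_distrib := by decide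
  right_distrib := by decide
  mul_comm := by decide
  zero_mul := by decide
  mul_zero := by decide
  nsmul := nsmulRec
  zsmul := zsmulRec

instance : Field F4 where
  exists_pair_ne := ⟨o, i, by decide⟩
  mul_inv_cancel := by decide
  inv_zero := rfl
  nnqsmul := _
  qsmul := _

theorem card_eq : Fintype.card F4 = 4 := rfl

end F4

end Cfsg.Agent.Helper19.Sp4
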