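import Mathlib
import Cfsg.Agent.Helper19.TCR.WG
import Cfsg.Agent.Helper19.SpK.Facts
import Cfsg.Agent.Helper19.SpP.Facts

/-! An abstract presentation `PG` on seven letters `a, c, d, e, f, u, u⁻¹` (it presents `Sp₄(4)`) with
`|PG| ≤ 979200`, by two coset enumerations checked by the reflective Todd–Coxeter checker:
`PG` over `⟨a, c, d, e, f⟩` (index `255`) and the sub-presentation `KG` over `⟨c d⟩` (index `384`). -/

set_option autoImplicit false
set_option linter.all false

namespace Cfsg.Agent.Helper19.Sp4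

open Cfsg.Agent.Helper19.TCS

/-! ### the sub-presentation on `a, c, d, e, f` -/

abbrev KG : Type := WG 5 SpK.rels

def gk (l : ℕ) : KG := wgc 5 SpK.rels l

theorem k_sq : ∀ l, l < 5 → [l, l] ∈ SpK.rels := by decide

theorem k_lt : ∀ w ∈ SpK.rels, ∀ l ∈ w, l < 5 := by decide

theorem prodw_replicate' {Γ : Type*} [Group Γ] (f : ℕ → Γ) (k : ℕ) (u : List ℕ) :
    prodw f (List.replicate k u).flatten = prodw f u ^ k := by
  induction k with
  | zero => simp [prodw]
  | succ k ih =>
    rw [List.replicate_succ, List.flatten_cons, prodw_append, ih, pow_succ]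

/-- `d c` in the sub-presentation. -/
def xk : KG := prodw gk [1, 2]

theorem xk_pow : xk ^ 10 = 1 := by
  have h : prodw gk ((List.replicate 10 [1, 2]).flatten) = 1 :=
    wg_rels_one 5 SpK.rels _ (by decide)
  rwa [prodw_replicate'] at h

theorem card_zpowers_xk : Nat.card (Subgroup.zpowers xk) ≤ 10 := by
  rw [Nat.card_zpowers]
  exact orderOf_le_of_pow_eq_one (by norm_num) xk_pow

theorem k_closed :
    Sem 384 5 SpK.invF SpK.nrots SpK.rotsF SpK.subsF (Subgroup.zpowers xk) gk ∧
      Closed 384 5 SpK.md SpK.ent SpK.parF SpK.pletF (Subgroup.zpowers xk) gk := by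
  apply SpK.closed
  · intro l hl
    rw [SpK.invF_ok l hl]
    exact (wgc_inv 5 SpK.rels (k_sq l hl)).symm
  · exact wg_rels_one 5 SpK.rels
  · intro w hw
    simp only [SpK.subs, List.mem_cons, List.not_mem_nil, or_false] at hw
    subst hw
    exact Subgroup.mem_zpowers xk

theorem card_KG : Nat.card KG ≤ 3840 ∧ Finite KG := by
  obtain ⟨S, hcl⟩ := k_closed
  have h1 := card_le S (wg_gen 5 SpK.rels) hcl
  have h2 := card_zpowers_xk
  have hfin : Finite (KG ⧸ Subgroup.zpowers xk) := finite_quot S (wg_gen 5 SpK.rels) hcl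
  have hpos : 0 < Nat.card (Subgroup.zpowers xk) := by
    rw [Nat.card_zpowers]
    exact orderOf_pos_iff.mpr (isOfFinOrder_iff_pow_eq_one.mpr ⟨10, by norm_num, xk_pow⟩)
  have hidx : (Subgroup.zpowers xk).index ≠ 0 := by
    rw [Subgroup.index_eq_card]; exact Nat.card_pos.ne'
  have hcard : Nat.card KG ≠ 0 := by
    rw [← Subgroup.card_mul_index (Subgroup.zpowers xk)]
    exact Nat.mul_ne_zero hpos.ne' hidx
  refine ⟨?_, Nat.finite_of_card_ne_zero hcard⟩
  calc Nat.card KG ≤ 384 * Nat.card (Subgroup.zpowers xk) := h1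
    _ ≤ 384 * 10 := Nat.mul_le_mul_left _ h2
    _ = 3840 := by norm_num

/-! ### the full presentation -/

abbrev PG : Type := WG 7 SpP.rels

def gp (l : ℕ) : PG := wgc 7 SpP.rels l

theorem p_lt : ∀ w ∈ SpP.rels, ∀ l ∈ w, l < 7 := by decide

theorem k_sub_p : ∀ w ∈ SpK.rels, w ∈ SpP.rels := by decide

theorem k_rels_p : ∀ w ∈ SpK.rels, prodw gp w = 1 := fun w hw =>
  wg_rels_one 7 SpP.rels w (k_sub_p w hw)

def phiK : KG →* PG := wgHom gp k_lt k_rels_p

/-- the subgroup `⟨a, c, d, e, f⟩` of `PG`. -/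
def K0 : Subgroup PG := phiK.range

theorem K0_eq : K0 = Subgroup.closure {g : PG | ∃ l, l < 5 ∧ g = gp l} :=
  wgHom_range gp k_lt k_rels_p

theorem card_K0 : Nat.card K0 ≤ 3840 := by
  obtain ⟨h1, h2⟩ := card_KG
  haveI := h2
  have : Nat.card K0 ≤ Nat.card KG := by
    unfold K0
    exact Nat.card_le_card_of_surjective _ phiK.rangeRestrict_surjective
  exact this.trans h1

theorem gp_inv : ∀ l, l < 7 → gp (SpP.invF l) = (gp l)⁻¹ := by
  have h56 : gp 6 * gp 5 = 1 := by
    have := wg_rels_one 7 SpP.rels [5, 6] (by decide)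
    simpa [prodw, gp] using this
  intro l hl
  interval_cases l
  · exact (wgc_inv 7 SpP.rels (l := 0) (by decide)).symm
  · exact (wgc_inv 7 SpP.rels (l := 1) (by decide)).symm
  · exact (wgc_inv 7 SpP.rels (l := 2) (by decide)).symm
  · exact (wgc_inv 7 SpP.rels (l := 3) (by decide)).symm
  · exact (wgc_inv 7 SpP.rels (l := 4) (by decide)).symm
  · show gp 6 = (gp 5)⁻¹
    exact eq_inv_of_mul_eq_one_left h56
  · show gp 5 = (gp 6)⁻¹
    exact eq_inv_of_mul_eq_one_right h56

theorem p_closed :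
    Sem 255 7 SpP.invF SpP.nrots SpP.rotsF SpP.subsF K0 gp ∧
      Closed 255 7 SpP.md SpP.ent SpP.parF SpP.pletF K0 gp := by
  apply SpP.closed
  · exact gp_inv
  · exact wg_rels_one 7 SpP.rels
  · intro w hw
    rw [K0_eq]
    simp only [SpP.subs, List.mem_cons, List.not_mem_nil, or_false] at hw
    rcases hw with rfl | rfl | rfl | rfl | rfl
    · exact Subgroup.subset_closure ⟨0, by norm_num, by simp [prodw]⟩
    · exact Subgroup.subset_closure ⟨1, by norm_num, by simp [prodw]⟩
    · exact Subgroup.subset_closure ⟨2, by norm_num, by simp [prodw]⟩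
    · exact Subgroup.subset_closure ⟨3, by norm_num, by simp [prodw]⟩
    · exact Subgroup.subset_closure ⟨4, by norm_num, by simp [prodw]⟩

theorem card_PG_le : Nat.card PG ≤ 979200 := by
  obtain ⟨S, hcl⟩ := p_closed
  have h1 := card_le S (wg_gen 7 SpP.rels) hcl
  calc Nat.card PG ≤ 255 * Nat.card K0 := h1
    _ ≤ 255 * 3840 := Nat.mul_le_mul_left _ card_K0
    _ = 979200 := by norm_num

theorem card_PG_pos : 0 < Nat.card PG := by
  obtain ⟨S, hcl⟩ := p_closed
  haveI : Finite (PG ⧸ K0) := finite_quot S (wg_gen 7 SpP.rels) hcl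
  obtain ⟨h1, h2⟩ := card_KG
  haveI := h2
  haveI : Finite K0 := by
    unfold K0
    exact Finite.of_surjective _ phiK.rangeRestrict_surjective
  have hidx : K0.index ≠ 0 := by
    rw [Subgroup.index_eq_card]; exact Nat.card_pos.ne'
  rw [← Subgroup.card_mul_index K0]
  exact Nat.mul_pos Nat.card_pos (Nat.pos_of_ne_zero hidx)

theorem finPG : Finite PG := Nat.finite_of_card_ne_zero card_PG_pos.ne'

end Cfsg.Agent.Helper19.Sp4
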