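import Mathlib
import Cfsg.Agent.Helper19.Sp4.F4
import Cfsg.Agent.Helper19.Sp4.Pres
import Cfsg.Agent.Helper2.SpGen
import Cfsg.Agent.S0245

/-! The isomorphism `PG ≃* Sp₄(𝔽₄)`: explicit symplectic matrices for the seven letters, relators
checked by `decide`, surjectivity because every transvection is an explicit word, and the order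
count `|PG| ≤ 979200 = |Sp₄(𝔽₄)|`. -/

set_option autoImplicit false
set_option linter.all false
set_option maxRecDepth 1000000
set_option maxHeartbeats 0

namespace Cfsg.Agent.Helper19.Sp4

open Cfsg.Agent.Helper19.TCS Matrix

local notation "z0" => F4.o
local notation "z1" => F4.i
local notation "zw" => F4.w
local notation "zv" => F4.v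

abbrev M4 : Type := Matrix (Fin 2 ⊕ Fin 2) (Fin 2 ⊕ Fin 2) F4
abbrev S4 : Type := ↥(symplecticGroup (Fin 2) F4)

def mA : M4 := fromBlocks !![z0, zw; z0, z0] !![z0, zw; zw, z0] !![z0, zv; zv, z0] !![z0, z0; zw, z0]
def mC : M4 := fromBlocks !![zw, zv; z0, zw] !![z0, z1; z1, z0] !![z0, zw; zw, z0] !![zw, z0; zv, zw]
def mD : M4 := fromBlocks !![z0, z1; z0, zw] !![z1, z1; z1, zw] !![zv, zw; zw, z0] !![z0, z0; z1, zw]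
def mE : M4 := fromBlocks !![zw, z1; z0, zw] !![zw, z1; z1, z0] !![z0, zw; zw, zv] !![zw, z0; z1, zw]
def mF : M4 := fromBlocks !![zv, zv; z0, zv] !![zw, zv; zv, z0] !![z0, z1; z1, zv] !![zv, z0; zv, zv]
def mU : M4 := fromBlocks !![z0, zv; z0, zv] !![zw, zv; zv, zv] !![z1, z1; z1, z1] !![z1, z0; zv, zw]
def mV : M4 := fromBlocks !![z1, zv; z0, zw] !![zw, zv; zv, zv] !![z1, z1; z1, z1] !![z0, z0; zv, zv]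

/-- the matrix of a letter. -/
def mm : ℕ → M4
  | 0 => mA
  | 1 => mC
  | 2 => mD
  | 3 => mE
  | 4 => mF
  | 5 => mU
  | _ => mV

theorem mm_mem : ∀ l, l < 7 → mm l * J (Fin 2) F4 * (mm l)ᵀ = J (Fin 2) F4 := by decide +kernel

/-- product of the matrices along a word, same convention as `prodw`. -/
def prodM : List ℕ → M4
  | [] => 1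
  | l :: w => prodM w * mm l

theorem relsM : ∀ w ∈ SpP.rels, prodM w = 1 := by decide +kernel

def codeF : F4 → ℕ
  | .o => 0 | .i => 1 | .w => 2 | .v => 3

def vec (a b c d : F4) : Fin 2 ⊕ Fin 2 → F4 := Sum.elim ![a, b] ![c, d]

def twL : List (List ℕ) := [[], [], [], [], [], [], [], [], [], [], [], [], [], [], [], [], [], [], [], [], [], [], [], [], [], [], [], [], [], [], [], [], [], [], [], [], [], [], [], [], [], [], [], [], [], [], [], [], [], [], [], [], [], [], [], [], [], [], [], [], [], [], [], [], [], [], [], [], [], [], [], [], [], [], [], [], [], [], [], [], [], [], [], [], [], [], [], [], [], [], [], [], [], [], [], [], [], [], [], [],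 [], [], [], [], [], [], [], [], [], [], [], [], [], [], [], [], [], [], [], [], [], [], [], [], [], [], [], [], [], [], [], [], [], [], [], [], [], [], [], [], [], [], [], [], [], [], [], [], [], [], [], [], [], [], [], [], [], [], [], [], [], [], [], [], [], [], [], [], [], [], [], [], [], [], [], [], [], [], [], [], [], [], [], [], [], [], [], [], [], [], [], [], [], [], [], [], [], [], [], [], [], [], [], [], [], [], [], [], [], [], [], [], [], [], [], [], [], [], [], [], [], [], [], [], [], [], [], [], [], [], [], [], [], [], [], [], [], [], [], [], [], [], [], [], [], [], [], [], [], [], [], [], [], [], [], [], [], [2, 1, 4, 2, 1, 6, 4, 2, 1,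 3, 5, 4, 2, 1, 3, 2, 4, 6], [1, 2, 1, 3, 4, 2, 1, 6, 4, 2, 1, 6, 4, 2, 1, 3, 5, 4, 2, 3], [2, 1, 2, 1, 4, 2, 5, 4, 2, 1, 2, 3, 2, 1, 4, 2, 6, 4, 2, 6], [0, 2, 1, 2, 1, 3, 4, 2, 3, 5, 4, 2, 1, 3, 6, 4, 2, 1, 2], [1, 3, 2, 1, 2, 6, 4, 2, 1, 2, 1, 3, 2, 5, 4, 2], [1, 4, 2, 5, 4, 2, 1, 2, 3, 2, 1, 4, 2, 1, 6, 4, 2, 6], [0, 4, 2, 1, 2, 3, 5, 4, 2, 1, 2, 6, 4], [0, 2, 1, 2, 4, 2, 1, 2, 3, 5, 4, 2, 1, 2, 6, 4, 2, 1, 2], [0, 3, 4, 2, 1, 2, 3, 2, 5, 4, 2, 1, 2, 3, 2, 6, 4], [1, 2, 1, 3, 2, 5, 4, 2, 1, 3, 2, 1, 2, 6, 4, 2], [0, 3, 2, 1, 4, 2, 3, 6, 4, 2, 1, 6, 4, 2, 3], [2, 1, 3, 2, 4, 2, 1, 3, 2, 4, 5, 4, 2, 1, 2, 1, 4, 2, 5, 4, 6], [1, 3, 6, 4, 2, 1, 2, 5,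 4, 2, 1, 2, 1, 3, 4, 6, 4, 2], [0, 1, 3, 4, 2, 3, 5, 4, 2, 1, 3, 6, 4], [1, 2, 1, 3, 2, 4, 2, 1, 3, 2, 1, 2, 6, 4, 2, 6], [1, 2, 1, 4, 2, 1, 3, 2, 5, 4, 2, 1, 3, 2, 5, 4], [1, 3, 4, 2, 1, 3, 2, 5, 4, 2, 1, 3, 2, 1, 5, 4, 2, 3], [1, 2, 1, 2, 3, 2, 1, 4, 2, 1, 6, 4, 2, 1, 6, 4, 2, 3, 5, 4], [0, 2, 1, 2, 4, 2, 1, 2, 3, 6, 4, 2, 1, 2, 5, 4, 2, 1, 2], [1, 2, 1, 2, 1, 3, 4, 2, 1, 2, 6, 4, 2, 1, 2, 3, 6, 4, 2, 1], [0, 2, 3, 4, 2, 1, 2, 3, 6, 4, 2, 1, 2, 3, 6, 4, 2], [2, 1, 3, 2, 1, 4, 2, 1, 3, 2, 6, 4, 2, 1, 2, 3, 2, 5, 4, 2], [1, 3, 2, 4, 2, 1, 3, 2, 6, 4, 2, 1, 2, 1, 4, 2, 6, 4, 5], [0, 5, 4, 2, 3, 6, 4, 2, 6, 4, 5], [0, 2, 1, 2, 1, 4, 2, 3, 6, 4, 2, 1,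 6, 4, 2, 1, 2], [0, 2, 1, 3, 2, 1, 2, 3, 6, 4, 2, 1, 2, 1, 3, 2, 5], [0, 1, 2, 3, 2, 1, 2, 3, 4, 2, 1, 2, 3, 2, 1], [1, 2, 4, 2, 1, 3, 2, 1, 2, 5, 4, 2, 1, 2, 3, 5], [0, 2, 1, 2, 3, 5, 4, 2, 1, 2, 6], [2, 4, 6, 4, 2, 1, 2, 3, 2, 1, 4, 2, 1, 5, 4, 2, 1, 2, 6, 4], [0, 1, 2, 1, 3, 4, 2, 3, 6, 4, 2, 1, 3, 5, 4, 2, 1], [1, 4, 2, 5, 4, 2, 1, 3, 2, 1, 2, 6, 4, 2, 1, 2, 3, 4], [2, 1, 3, 2, 4, 2, 1, 3, 2, 4, 6, 4, 2, 1, 2, 1, 4, 2, 6, 4, 5], [0, 2, 1, 6, 4, 2, 3, 5, 4, 2, 1, 5, 4, 2, 5], [0, 1, 2, 1, 6, 4, 2, 1, 3, 5, 4, 2, 1, 3, 2, 5, 4, 2, 1, 5, 4, 2], [1, 2, 4, 2, 1, 2, 1, 3, 2, 6, 4, 2, 1, 3, 2, 6], [0, 1, 2, 4, 2, 1, 2, 3, 6, 4, 2, 1, 2, 5, 4, 2, 1], [0,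 2, 3, 2, 1, 2, 3, 5, 4, 2, 1, 2, 3, 2, 6], [1, 3, 4, 2, 1, 6, 4, 2, 1, 6, 4, 2, 1, 3, 5, 4, 2, 1, 3, 2], [0, 1, 4, 2, 1, 3, 6, 4, 2, 1, 3, 5, 4, 2, 1, 5, 4, 2, 1, 2], [0, 1, 2, 1, 3, 4, 2, 3, 5, 4, 2, 1, 3, 6, 4, 2, 1], [0, 2, 4, 2, 1, 2, 3, 2, 6, 4, 2, 1, 3, 2, 6, 4, 2], [2, 1, 3, 4, 2, 6, 4, 2, 1, 3, 2, 1, 6, 4, 2, 1, 2, 4], [0, 1, 6, 4, 2, 1, 2, 3, 6, 4, 2, 1, 2, 1, 5, 4, 6], [0, 2, 3, 2, 4, 2, 3], [2, 1, 2, 3, 2, 1, 4, 2, 5, 4, 2, 1, 2, 1, 4, 2, 6, 4, 2, 6], [1, 2, 1, 2, 1, 3, 2, 6, 4, 2, 1, 3, 2, 1, 2, 5], [1, 2, 1, 3, 4, 2, 1, 2, 6, 4, 2, 1, 2, 3, 6, 4], [2, 3, 2, 1, 4, 2, 5, 4, 2, 1, 3, 2, 1, 5, 4, 2, 1, 2, 3, 4], [0, 2, 1, 2, 1, 3, 4, 2, 3,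 6, 4, 2, 1, 3, 5, 4, 2, 1, 2], [1, 4, 2, 1, 2, 6, 4, 2, 1, 2, 1, 3, 6, 4, 2, 3], [0, 1, 5, 4, 2, 1, 2, 3, 2, 6, 4, 2, 1, 3, 2, 1, 6, 4, 5], [0, 3, 6, 4, 5], [0, 1, 2, 1, 2, 3, 4, 2, 1, 2, 1], [0, 2, 1, 2, 4, 2, 1, 2, 3, 2, 6, 4, 2, 1, 3, 2, 6, 4, 2, 1, 2], [1, 2, 5, 4, 2, 1, 2, 1, 3, 2, 6, 4, 2, 1, 3, 2], [0, 1, 2, 1, 4, 2, 6, 4, 2, 1, 2, 3, 2, 1, 5, 4, 2, 1, 5, 4, 2, 5], [1, 3, 2, 4, 2, 1, 3, 2, 5, 4, 2, 1, 2, 1, 4, 2, 5, 4, 6], [0, 1, 2, 3, 2, 5, 4, 2, 1, 3, 6], [1, 2, 1, 4, 2, 1, 3, 6, 4, 2, 1, 6, 4, 2, 1, 2, 3, 4, 2], [2, 1, 2, 3, 2, 1, 4, 2, 1, 2, 5, 4, 2, 1, 2, 6, 4, 2], [0, 1, 2, 4, 2, 1, 2, 3, 5, 4, 2, 1, 2, 6, 4, 2, 1], [0, 2, 1, 4, 2, 3,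 6, 4, 2, 1, 6, 4, 2], [1, 2, 1, 3, 4, 2, 1, 5, 4, 2, 1, 5, 4, 2, 1, 3, 6, 4, 2, 3], [4, 2, 1, 2, 1, 4, 2, 6, 4, 2, 1, 2, 3, 2, 1, 5, 4, 2, 5, 4, 6], [1, 2, 1, 2, 1, 3, 2, 4, 2, 1, 3, 2, 1, 2], [1, 2, 1, 4, 2, 1, 5, 4, 2, 1, 3, 6, 4, 2, 1, 3, 2, 1, 4, 5], [1, 2, 1, 3, 4, 2, 1, 2, 5, 4, 2, 1, 2, 3, 5, 4], [2, 1, 2, 1, 4, 2, 1, 3, 2, 5, 4, 2, 1, 3, 2, 5, 4, 2], [0, 1, 2, 1, 2, 3, 6, 4, 2, 1, 2, 1, 5], [1, 4, 2, 1, 5, 4, 2, 1, 3, 2, 5, 4, 2, 1, 3, 2, 4, 6], [1, 3, 4, 2, 1, 3, 2, 6, 4, 2, 1, 3, 2, 1, 6, 4, 2, 3], [0, 2, 4, 2, 1, 2, 3, 5, 4, 2, 1, 2, 6, 4, 2], [0, 2, 1, 3, 2, 1, 4, 2, 3, 5, 4, 2, 1, 5, 4, 2, 1, 3, 2], [0, 2, 1, 2, 3, 2, 6, 4, 2, 1, 3, 2,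 6], [0, 1, 2, 1, 5, 4, 2, 1, 3, 6, 4, 2, 1, 3, 2, 6, 4, 2, 1, 6, 4, 2], [1, 2, 3, 2, 1, 4, 2, 5, 4, 2, 1, 2, 1, 4, 2, 6, 4, 5], [0, 4, 2, 3, 5, 4, 2, 5, 4], [1, 3, 2, 5, 4, 2, 1, 3, 2, 1, 2, 6, 4, 2, 1, 2], [2, 1, 4, 2, 5, 4, 2, 1, 2, 1, 3, 5, 4, 2, 1, 3, 2, 4], [0, 2, 1, 3, 2, 1, 4, 2, 3, 6, 4, 2, 1, 6, 4, 2, 1, 3, 2], [1, 3, 2, 4, 6, 4, 2, 1, 3, 2, 1, 2, 4, 2, 1, 2, 5], [1, 2, 1, 3, 2, 6, 4, 2, 1, 3, 2, 1, 2, 5, 4, 2], [0, 1, 4, 2, 3, 5, 4, 2, 1, 5, 4], [0, 3, 2, 1, 5, 4, 2, 3, 6, 4, 2, 1, 6, 4, 2, 3, 5], [0, 2, 3, 6, 4, 2, 6], [1, 2, 5, 4, 2, 1, 3, 2, 1, 2, 6, 4, 2, 1, 2, 3], [2, 1, 3, 2, 1, 2, 5, 4, 2, 1, 2, 1, 3, 2, 6, 4], [0, 1, 2, 1, 2, 3, 2,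 4, 2, 1, 3, 2, 1], [0, 1, 6, 4, 2, 3, 5, 4, 2, 1, 5, 4, 6], [0, 2, 1, 2, 1, 4, 2, 3, 5, 4, 2, 1, 5, 4, 2, 1, 2], [0, 1, 3, 2, 1, 2, 3, 5, 4, 2, 1, 2, 1, 3, 5], [1, 2, 1, 2, 5, 4, 2, 1, 2, 1, 3, 2, 6, 4, 2, 3], [0, 2, 3, 2, 1, 4, 2, 3, 6, 4, 2, 1, 3, 5, 4, 2, 3], [2, 1, 3, 4, 2, 5, 4, 2, 1, 3, 2, 1, 5, 4, 2, 1, 2, 4], [1, 2, 1, 4, 2, 5, 4, 2, 1, 2, 3, 2, 1, 4, 2, 6, 4, 5], [0, 1, 3, 4, 2, 3, 6, 4, 2, 1, 3, 5, 4], [0, 2, 3, 4, 2, 1, 2, 3, 2, 6, 4, 2, 1, 2, 3, 2, 5, 4, 2], [0, 4, 2, 3, 6, 4, 2, 6, 4], [0, 4, 2, 1, 2, 3, 2, 6, 4, 2, 1, 3, 2, 6, 4], [1, 2, 1, 4, 2, 1, 3, 5, 4, 2, 1, 5, 4, 2, 1, 2, 3, 4, 2], [1, 3, 2, 1, 4, 2, 1, 3, 2, 5, 4, 2, 1, 2, 3,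 2, 6, 4], [0, 1, 3, 2, 1, 4, 2, 3, 5, 4, 2, 1, 5, 4, 2, 1, 3], [1, 2, 3, 2, 1, 4, 2, 1, 2, 5, 4, 2, 1, 2, 6, 4], [0, 2, 1, 2, 3, 6, 4, 2, 1, 2, 5], [0, 1, 4, 2, 1, 2, 3, 5, 4, 2, 1, 2, 1, 6, 4], [1, 2, 1, 2, 6, 4, 2, 1, 2, 1, 3, 2, 5, 4, 2, 3], [0, 1, 2, 1, 2, 3, 4, 2, 1, 2, 6, 4, 2, 1, 2, 3, 6, 4, 2, 1, 2], [1, 2, 1, 2, 1, 3, 2, 5, 4, 2, 1, 3, 2, 1, 2, 6], [0, 6, 4, 2, 1, 2, 3, 6, 4, 2, 1, 2, 5, 4, 6], [0, 1, 2, 3, 4, 2, 1], [0, 1, 2, 1, 2, 3, 5, 4, 2, 1, 2, 1, 6], [0, 1, 2, 4, 2, 1, 2, 3, 2, 5, 4, 2, 1, 3, 2, 5, 4, 2, 1], [1, 4, 2, 6, 4, 2, 1, 2, 3, 2, 1, 4, 2, 1, 5, 4, 2, 5], [0, 3, 2, 1, 2, 3, 5, 4, 2, 1, 2, 3, 5], [0, 2, 1, 2, 3, 4, 2, 1, 2],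 [0, 1, 2, 1, 4, 2, 1, 3, 6, 4, 2, 1, 3, 5, 4, 2, 1, 5, 4, 2], [0, 1, 6, 4, 2, 1, 2, 3, 2, 5, 4, 2, 1, 3, 2, 1, 5, 4, 6], [2, 1, 2, 1, 3, 2, 4, 2, 1, 3, 2, 1, 2, 6, 4, 5], [0, 3, 2, 1, 6, 4, 2, 3, 5, 4, 2, 1, 5, 4, 2, 3, 6], [2, 3, 2, 4, 2, 1, 2, 5, 4, 2, 1, 2, 1, 3, 5, 4, 2, 1, 2, 3], [0, 2, 3, 4, 2, 1, 2, 3, 5, 4, 2, 1, 2, 3, 5, 4, 2], [0, 3, 4, 2, 3, 6, 4, 2, 3, 5, 4], [0, 1, 3, 2, 1, 4, 2, 3, 6, 4, 2, 1, 6, 4, 2, 1, 3], [0, 3, 2, 4, 2, 1, 2, 3, 5, 4, 2, 1, 2, 6, 4, 2, 3], [1, 3, 4, 2, 1, 5, 4, 2, 1, 5, 4, 2, 1, 3, 6, 4, 2, 1, 3, 2], [1, 4, 2, 1, 2, 3, 2, 1, 4, 2, 1, 6, 4, 2, 1, 6, 4, 2, 3, 5], [2, 1, 2, 1, 4, 2, 6, 4, 2, 1, 2, 3, 2, 1, 4, 2, 5,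 4, 2, 5], [1, 2, 3, 2, 1, 4, 2, 1, 5, 4, 2, 1, 5, 4, 2, 1, 3, 6, 4, 2], [1, 2, 1, 4, 2, 1, 5, 4, 2, 1, 3, 6, 4, 2, 1, 2, 3, 2, 4, 6], [0, 3, 4], [2, 3, 2, 1, 4, 2, 6, 4, 2, 1, 3, 2, 1, 6, 4, 2, 1, 2, 3, 4], [1, 3, 2, 4, 2, 1, 3, 2, 1, 2, 6, 4, 2, 1, 2, 5], [0, 1, 2, 4, 2, 1, 2, 3, 2, 6, 4, 2, 1, 3, 2, 6, 4, 2, 1], [0, 1, 3, 4, 2, 1, 2, 3, 5, 4, 2, 1, 2, 1, 3, 5, 4], [1, 2, 1, 4, 2, 1, 3, 2, 6, 4, 2, 1, 3, 2, 6, 4], [1, 2, 1, 3, 5, 4, 2, 1, 2, 6, 4, 2, 1, 2, 3, 4, 5, 4], [2, 1, 4, 2, 6, 4, 2, 1, 2, 1, 3, 6, 4, 2, 1, 3, 2, 4], [0, 1, 2, 3, 2, 1, 2, 3, 6, 4, 2, 1, 2, 3, 2, 1, 5], [0, 2, 1, 5, 4, 2, 3, 6, 4, 2, 1, 6, 4, 2, 6], [0, 1, 2, 3, 6, 4, 2, 1,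 6], [0, 2, 3, 4, 2, 1, 2, 3, 2, 5, 4, 2, 1, 2, 3, 2, 6, 4, 2], [2, 1, 2, 1, 3, 4, 2, 6, 4, 2, 1, 2, 1, 4, 2, 3, 6, 4, 2, 6], [0, 1, 2, 3, 2, 1, 2, 3, 5, 4, 2, 1, 2, 3, 2, 1, 6], [0, 2, 1, 2, 3, 2, 5, 4, 2, 1, 3, 2, 5], [0, 1, 2, 1, 4, 2, 3, 5, 4, 2, 1, 5, 4, 2, 1], [0, 3, 2, 1, 4, 2, 3, 5, 4, 2, 1, 5, 4, 2, 3], [1, 2, 1, 3, 4, 2, 5, 4, 2, 1, 2, 1, 4, 2, 3, 5, 4, 6], [2, 3, 2, 4, 2, 1, 2, 6, 4, 2, 1, 2, 1, 3, 6, 4, 2, 1, 2, 3], [1, 5, 4, 2, 1, 3, 2, 5, 4, 2, 1, 3, 2, 1, 4, 6, 4, 2], [0, 1, 2, 1, 4, 2, 5, 4, 2, 1, 2, 3, 2, 1, 6, 4, 2, 1, 6, 4, 2, 6], [0, 2, 3, 2, 1, 2, 3, 4, 2, 1, 2, 3, 2], [2, 1, 3, 2, 1, 2, 6, 4, 2, 1, 2, 1, 3, 2, 5, 4], [0, 3, 2,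 1, 2, 1, 4, 2, 3, 6, 4, 2, 1, 6, 4, 2, 1, 2, 3], [0, 6, 4, 2, 3, 5, 4, 2, 5, 4, 6], [1, 3, 4, 2, 1, 2, 6, 4, 2, 1, 2, 1, 3, 6, 4, 2], [0, 1, 4, 2, 1, 2, 3, 6, 4, 2, 1, 2, 1, 5, 4], [3, 2, 1, 2, 1, 4, 2, 1, 3, 2, 6, 4, 2, 1, 3, 2, 6, 4, 2, 3], [0, 2, 4, 2, 1, 2, 3, 2, 5, 4, 2, 1, 3, 2, 5, 4, 2], [2, 1, 2, 1, 3, 4, 2, 1, 2, 5, 4, 2, 1, 2, 3, 5, 4, 2], [1, 2, 1, 3, 2, 4, 2, 1, 3, 2, 1, 2, 5, 4, 2, 5], [2, 1, 2, 1, 3, 4, 2, 5, 4, 2, 1, 2, 1, 4, 2, 3, 5, 4, 2, 5], [1, 3, 2, 6, 4, 2, 1, 3, 2, 1, 2, 5, 4, 2, 1, 2], [0, 1, 2, 1, 2, 3, 2, 5, 4, 2, 1, 3, 2, 1, 5], [2, 1, 2, 3, 2, 1, 4, 2, 1, 2, 6, 4, 2, 1, 2, 5, 4, 2], [1, 2, 1, 2, 4, 5, 4, 2, 1, 2, 1, 3, 2,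 4, 2, 3, 6], [0, 3, 2, 4, 2, 1, 2, 3, 6, 4, 2, 1, 2, 5, 4, 2, 3], [0, 3, 4, 2, 1, 2, 3, 5, 4, 2, 1, 2, 3, 5, 4], [1, 2, 4, 2, 1, 3, 2, 1, 2, 6, 4, 2, 1, 2, 3, 6], [1, 3, 4, 2, 1, 2, 5, 4, 2, 1, 2, 1, 3, 5, 4, 2], [0, 1, 3, 2, 1, 2, 3, 6, 4, 2, 1, 2, 1, 3, 6], [2, 1, 2, 1, 3, 2, 6, 4, 2, 1, 3, 2, 1, 2, 5, 4], [2, 1, 2, 3, 2, 1, 4, 2, 6, 4, 2, 1, 2, 1, 4, 2, 5, 4, 2, 5], [0, 2, 3, 4, 2], [0, 5, 4, 2, 1, 2, 3, 5, 4, 2, 1, 2, 6, 4, 5], [1, 4, 2, 1, 6, 4, 2, 1, 3, 2, 6, 4, 2, 1, 3, 2, 4, 5], [0, 1, 3, 4, 2, 1, 2, 3, 6, 4, 2, 1, 2, 1, 3, 6, 4], [0, 4, 2, 1, 2, 3, 6, 4, 2, 1, 2, 5, 4], [0, 2, 1, 3, 4, 2, 3, 6, 4, 2, 1, 3, 5, 4, 2], [0, 1, 2, 1, 4, 2, 1, 3,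 5, 4, 2, 1, 3, 6, 4, 2, 1, 6, 4, 2], [0, 3, 2, 1, 2, 3, 4, 2, 1, 2, 3], [0, 3, 5, 4, 6], [0, 5, 4, 2, 1, 2, 3, 2, 6, 4, 2, 1, 3, 2, 6, 4, 5], [0, 1, 4, 2, 3, 6, 4, 2, 1, 6, 4], [1, 2, 1, 3, 4, 2, 6, 4, 2, 1, 2, 1, 4, 2, 3, 6, 4, 5], [1, 2, 1, 2, 1, 3, 4, 2, 1, 2, 5, 4, 2, 1, 2, 3, 5, 4, 2, 1], [0, 1, 2, 1, 6, 4, 2, 3, 5, 4, 2, 1, 5, 4, 2, 1, 5], [1, 3, 2, 1, 4, 2, 1, 3, 2, 6, 4, 2, 1, 2, 3, 2, 5, 4], [1, 2, 1, 2, 4, 6, 4, 2, 1, 2, 1, 3, 2, 4, 2, 3, 5], [0, 2, 3, 2, 1, 2, 3, 6, 4, 2, 1, 2, 3, 2, 5], [0, 1, 3, 4, 2, 1, 2, 3, 2, 5, 4, 2, 1, 2, 3, 2, 1, 6, 4], [2, 1, 4, 2, 1, 5, 4, 2, 1, 3, 6, 4, 2, 1, 3, 2, 4, 5], [0, 2, 1, 3, 2, 1, 2, 3, 4, 2, 1, 2,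 1, 3, 2], [4, 2, 1, 2, 1, 4, 2, 5, 4, 2, 1, 2, 3, 2, 1, 6, 4, 2, 6, 4, 5], [1, 2, 3, 2, 1, 4, 2, 1, 6, 4, 2, 1, 6, 4, 2, 1, 3, 5, 4, 2], [1, 4, 2, 1, 2, 5, 4, 2, 1, 2, 1, 3, 5, 4, 2, 3], [2, 1, 2, 1, 5, 4, 2, 1, 3, 2, 5, 4, 2, 1, 3, 2, 4, 6, 4, 2], [0, 3, 2, 1, 2, 3, 6, 4, 2, 1, 2, 3, 6], [0, 2, 1, 3, 4, 2, 3, 5, 4, 2, 1, 3, 6, 4, 2], [1, 2, 1, 2, 3, 2, 1, 4, 2, 1, 5, 4, 2, 1, 5, 4, 2, 3, 6, 4], [0, 1, 4, 2, 1, 2, 3, 2, 5, 4, 2, 1, 3, 2, 1, 5, 4], [1, 3, 2, 4, 5, 4, 2, 1, 3, 2, 1, 2, 4, 2, 1, 2, 6], [0, 1, 2, 1, 4, 2, 3, 6, 4, 2, 1, 6, 4, 2, 1], [1, 4, 2, 5, 4, 2, 1, 2, 1, 3, 2, 6, 4, 2, 1, 3, 2, 4], [0, 2, 3, 2, 6, 4, 2, 3, 5], [1, 2, 1, 4, 2, 6,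 4, 2, 1, 2, 3, 2, 1, 4, 2, 5, 4, 6], [2, 1, 2, 1, 3, 4, 2, 1, 2, 6, 4, 2, 1, 2, 3, 6, 4, 2], [1, 2, 1, 3, 6, 4, 2, 1, 2, 5, 4, 2, 1, 2, 3, 4, 6, 4], [0, 2, 4, 2, 1, 2, 3, 6, 4, 2, 1, 2, 5, 4, 2], [0, 1, 4, 2, 1, 2, 3, 2, 6, 4, 2, 1, 3, 2, 1, 6, 4], [0, 3, 4, 2, 1, 2, 3, 2, 6, 4, 2, 1, 2, 3, 2, 5, 4], [0, 1, 2, 1, 5, 4, 2, 3, 6, 4, 2, 1, 6, 4, 2, 1, 6], [0, 3, 4, 2, 3, 5, 4, 2, 3, 6, 4], [1, 2, 1, 2, 4, 2, 1, 2, 1, 3, 2, 5, 4, 2, 3, 6], [0, 1, 2, 3, 2, 6, 4, 2, 1, 3, 5], [0, 3, 2, 1, 2, 1, 4, 2, 3, 5, 4, 2, 1, 5, 4, 2, 1, 2, 3], [0, 1, 5, 4, 2, 3, 6, 4, 2, 1, 6, 4, 5], [0, 2, 1, 2, 3, 2, 4, 2, 1, 3, 2], [0, 2, 1, 3, 2, 1, 2, 3, 5, 4, 2, 1, 2, 1, 3,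 2, 6], [0, 3, 4, 2, 1, 2, 3, 6, 4, 2, 1, 2, 3, 6, 4], [1, 2, 3, 2, 1, 4, 2, 1, 2, 6, 4, 2, 1, 2, 5, 4], [1, 2, 1, 5, 4, 2, 1, 3, 2, 5, 4, 2, 1, 3, 2, 4, 6, 4], [0, 1, 4, 2, 1, 3, 5, 4, 2, 1, 3, 6, 4, 2, 1, 6, 4, 2, 1, 2], [0, 2, 3, 2, 5, 4, 2, 3, 6], [1, 3, 5, 4, 2, 1, 2, 6, 4, 2, 1, 2, 1, 3, 4, 5, 4, 2], [0, 1, 2, 3, 5, 4, 2, 1, 5], [1, 2, 3, 2, 1, 4, 2, 6, 4, 2, 1, 2, 1, 4, 2, 5, 4, 6], [1, 4, 2, 1, 3, 2, 5, 4, 2, 1, 3, 2, 1, 5, 4, 2], [0, 2, 1, 4, 2, 3, 5, 4, 2, 1, 5, 4, 2], [0, 1, 3, 4, 2, 1, 2, 3, 2, 6, 4, 2, 1, 2, 3, 2, 1, 5, 4], [1, 4, 2, 1, 2, 3, 2, 1, 4, 2, 1, 5, 4, 2, 1, 5, 4, 2, 3, 6], [1, 2, 1, 6, 4, 2, 1, 3, 2, 6, 4, 2, 1, 3, 2, 4, 5,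 4], [2, 4, 5, 4, 2, 1, 2, 3, 2, 1, 4, 2, 1, 6, 4, 2, 1, 2, 5, 4], [3, 2, 1, 2, 1, 4, 2, 1, 3, 2, 5, 4, 2, 1, 3, 2, 5, 4, 2, 3], [0, 2, 3, 2, 1, 4, 2, 3, 5, 4, 2, 1, 3, 6, 4, 2, 3], [0, 1, 2, 3, 2, 4, 2, 1, 3], [0, 1, 5, 4, 2, 1, 2, 3, 5, 4, 2, 1, 2, 1, 6, 4, 5], [2, 1, 2, 1, 3, 2, 5, 4, 2, 1, 3, 2, 1, 2, 6, 4], [0, 1, 2, 1, 2, 3, 4, 2, 1, 2, 5, 4, 2, 1, 2, 3, 5, 4, 2, 1, 2], [2, 1, 2, 1, 4, 2, 1, 3, 2, 6, 4, 2, 1, 3, 2, 6, 4, 2], [1, 3, 2, 4, 2, 1, 3, 2, 1, 2, 5, 4, 2, 1, 2, 6], [1, 3, 2, 1, 2, 5, 4, 2, 1, 2, 1, 3, 2, 6, 4, 2], [2, 1, 2, 1, 6, 4, 2, 1, 3, 2, 6, 4, 2, 1, 3, 2, 4, 5, 4, 2], [2, 1, 2, 1, 3, 2, 4, 2, 1, 3, 2, 1, 2, 5, 4, 6], [0, 6, 4,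 2, 1, 2, 3, 2, 5, 4, 2, 1, 3, 2, 5, 4, 6], [0, 2, 1, 2, 4, 2, 1, 2, 3, 2, 5, 4, 2, 1, 3, 2, 5, 4, 2, 1, 2], [0, 1, 3, 2, 1, 2, 3, 4, 2, 1, 2, 1, 3], [0, 2, 3, 5, 4, 2, 5], [1, 6, 4, 2, 1, 3, 2, 6, 4, 2, 1, 3, 2, 1, 4, 5, 4, 2], [2, 1, 3, 2, 1, 4, 2, 1, 3, 2, 5, 4, 2, 1, 2, 3, 2, 6, 4, 2], [1, 2, 1, 2, 4, 2, 1, 2, 1, 3, 2, 6, 4, 2, 3, 5], [0, 4, 2, 1, 2, 3, 2, 5, 4, 2, 1, 3, 2, 5, 4], [0, 1, 2, 1, 2, 3, 2, 6, 4, 2, 1, 3, 2, 1, 6], [1, 2, 4, 2, 1, 2, 1, 3, 2, 5, 4, 2, 1, 3, 2, 5], [1, 4, 2, 1, 3, 2, 6, 4, 2, 1, 3, 2, 1, 6, 4, 2], [], [2, 1, 2, 1, 4, 2, 5, 4, 2, 1, 2, 3, 2, 1, 4, 2, 6, 4, 2, 6], [2, 1, 4, 2, 1, 6, 4, 2, 1, 3, 5, 4, 2, 1, 3, 2, 4, 6],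 [1, 2, 1, 3, 4, 2, 1, 6, 4, 2, 1, 6, 4, 2, 1, 3, 5, 4, 2, 3], [2, 1, 3, 2, 4, 2, 1, 3, 2, 4, 5, 4, 2, 1, 2, 1, 4, 2, 5, 4, 6], [1, 2, 1, 3, 2, 4, 2, 1, 3, 2, 1, 2, 6, 4, 2, 6], [1, 3, 6, 4, 2, 1, 2, 5, 4, 2, 1, 2, 1, 3, 4, 6, 4, 2], [0, 1, 3, 4, 2, 3, 5, 4, 2, 1, 3, 6, 4], [0, 2, 1, 2, 1, 3, 4, 2, 3, 5, 4, 2, 1, 3, 6, 4, 2, 1, 2], [0, 4, 2, 1, 2, 3, 5, 4, 2, 1, 2, 6, 4], [1, 3, 2, 1, 2, 6, 4, 2, 1, 2, 1, 3, 2, 5, 4, 2], [1, 4, 2, 5, 4, 2, 1, 2, 3, 2, 1, 4, 2, 1, 6, 4, 2, 6], [0, 2, 1, 2, 4, 2, 1, 2, 3, 5, 4, 2, 1, 2, 6, 4, 2, 1, 2], [0, 3, 2, 1, 4, 2, 3, 6, 4, 2, 1, 6, 4, 2, 3], [0, 3, 4, 2, 1, 2, 3, 2, 5, 4, 2, 1, 2, 3, 2, 6, 4], [1, 2, 1, 3, 2, 5,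 4, 2, 1, 3, 2, 1, 2, 6, 4, 2], [1, 2, 1, 3, 4, 2, 1, 2, 6, 4, 2, 1, 2, 3, 6, 4], [1, 4, 2, 1, 2, 6, 4, 2, 1, 2, 1, 3, 6, 4, 2, 3], [2, 3, 2, 1, 4, 2, 5, 4, 2, 1, 3, 2, 1, 5, 4, 2, 1, 2, 3, 4], [0, 2, 1, 2, 1, 3, 4, 2, 3, 6, 4, 2, 1, 3, 5, 4, 2, 1, 2], [1, 2, 1, 4, 2, 1, 3, 6, 4, 2, 1, 6, 4, 2, 1, 2, 3, 4, 2], [0, 2, 1, 4, 2, 3, 6, 4, 2, 1, 6, 4, 2], [2, 1, 2, 3, 2, 1, 4, 2, 1, 2, 5, 4, 2, 1, 2, 6, 4, 2], [0, 1, 2, 4, 2, 1, 2, 3, 5, 4, 2, 1, 2, 6, 4, 2, 1], [0, 1, 5, 4, 2, 1, 2, 3, 2, 6, 4, 2, 1, 3, 2, 1, 6, 4, 5], [0, 2, 1, 2, 4, 2, 1, 2, 3, 2, 6, 4, 2, 1, 3, 2, 6, 4, 2, 1, 2], [0, 3, 6, 4, 5], [0, 1, 2, 1, 2, 3, 4, 2, 1, 2, 1], [1, 2, 5, 4, 2, 1,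 2, 1, 3, 2, 6, 4, 2, 1, 3, 2], [0, 1, 2, 3, 2, 5, 4, 2, 1, 3, 6], [0, 1, 2, 1, 4, 2, 6, 4, 2, 1, 2, 3, 2, 1, 5, 4, 2, 1, 5, 4, 2, 5], [1, 3, 2, 4, 2, 1, 3, 2, 5, 4, 2, 1, 2, 1, 4, 2, 5, 4, 6], [1, 2, 1, 4, 2, 1, 3, 2, 5, 4, 2, 1, 3, 2, 5, 4], [0, 2, 1, 2, 4, 2, 1, 2, 3, 6, 4, 2, 1, 2, 5, 4, 2, 1, 2], [1, 3, 4, 2, 1, 3, 2, 5, 4, 2, 1, 3, 2, 1, 5, 4, 2, 3], [1, 2, 1, 2, 3, 2, 1, 4, 2, 1, 6, 4, 2, 1, 6, 4, 2, 3, 5, 4], [1, 2, 4, 2, 1, 3, 2, 1, 2, 5, 4, 2, 1, 2, 3, 5], [0, 1, 2, 1, 3, 4, 2, 3, 6, 4, 2, 1, 3, 5, 4, 2, 1], [0, 2, 1, 2, 3, 5, 4, 2, 1, 2, 6], [2, 4, 6, 4, 2, 1, 2, 3, 2, 1, 4, 2, 1, 5, 4, 2, 1, 2, 6, 4], [1, 2, 1, 2, 1, 3, 4, 2, 1, 2, 6, 4,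 2, 1, 2, 3, 6, 4, 2, 1], [1, 3, 2, 4, 2, 1, 3, 2, 6, 4, 2, 1, 2, 1, 4, 2, 6, 4, 5], [0, 2, 3, 4, 2, 1, 2, 3, 6, 4, 2, 1, 2, 3, 6, 4, 2], [2, 1, 3, 2, 1, 4, 2, 1, 3, 2, 6, 4, 2, 1, 2, 3, 2, 5, 4, 2], [0, 5, 4, 2, 3, 6, 4, 2, 6, 4, 5], [0, 1, 2, 3, 2, 1, 2, 3, 4, 2, 1, 2, 3, 2, 1], [0, 2, 1, 2, 1, 4, 2, 3, 6, 4, 2, 1, 6, 4, 2, 1, 2], [0, 2, 1, 3, 2, 1, 2, 3, 6, 4, 2, 1, 2, 1, 3, 2, 5], [1, 4, 2, 5, 4, 2, 1, 3, 2, 1, 2, 6, 4, 2, 1, 2, 3, 4], [0, 1, 2, 1, 6, 4, 2, 1, 3, 5, 4, 2, 1, 3, 2, 5, 4, 2, 1, 5, 4, 2], [2, 1, 3, 2, 4, 2, 1, 3, 2, 4, 6, 4, 2, 1, 2, 1, 4, 2, 6, 4, 5], [0, 2, 1, 6, 4, 2, 3, 5, 4, 2, 1, 5, 4, 2, 5], [0, 1, 6, 4, 2, 1, 2, 3, 6, 4, 2,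 1, 2, 1, 5, 4, 6], [1, 2, 1, 2, 1, 3, 2, 6, 4, 2, 1, 3, 2, 1, 2, 5], [0, 2, 3, 2, 4, 2, 3], [2, 1, 2, 3, 2, 1, 4, 2, 5, 4, 2, 1, 2, 1, 4, 2, 6, 4, 2, 6], [1, 2, 4, 2, 1, 2, 1, 3, 2, 6, 4, 2, 1, 3, 2, 6], [1, 3, 4, 2, 1, 6, 4, 2, 1, 6, 4, 2, 1, 3, 5, 4, 2, 1, 3, 2], [0, 1, 2, 4, 2, 1, 2, 3, 6, 4, 2, 1, 2, 5, 4, 2, 1], [0, 2, 3, 2, 1, 2, 3, 5, 4, 2, 1, 2, 3, 2, 6], [0, 1, 4, 2, 1, 3, 6, 4, 2, 1, 3, 5, 4, 2, 1, 5, 4, 2, 1, 2], [2, 1, 3, 4, 2, 6, 4, 2, 1, 3, 2, 1, 6, 4, 2, 1, 2, 4], [0, 1, 2, 1, 3, 4, 2, 3, 5, 4, 2, 1, 3, 6, 4, 2, 1], [0, 2, 4, 2, 1, 2, 3, 2, 6, 4, 2, 1, 3, 2, 6, 4, 2], [2, 1, 4, 2, 1, 5, 4, 2, 1, 3, 6, 4, 2, 1, 3, 2, 4, 5], [1, 2, 3,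 2, 1, 4, 2, 1, 6, 4, 2, 1, 6, 4, 2, 1, 3, 5, 4, 2], [0, 2, 1, 3, 2, 1, 2, 3, 4, 2, 1, 2, 1, 3, 2], [4, 2, 1, 2, 1, 4, 2, 5, 4, 2, 1, 2, 3, 2, 1, 6, 4, 2, 6, 4, 5], [1, 4, 2, 5, 4, 2, 1, 2, 1, 3, 2, 6, 4, 2, 1, 3, 2, 4], [2, 1, 2, 1, 3, 4, 2, 1, 2, 6, 4, 2, 1, 2, 3, 6, 4, 2], [0, 2, 3, 2, 6, 4, 2, 3, 5], [1, 2, 1, 4, 2, 6, 4, 2, 1, 2, 3, 2, 1, 4, 2, 5, 4, 6], [1, 4, 2, 1, 2, 5, 4, 2, 1, 2, 1, 3, 5, 4, 2, 3], [0, 2, 1, 3, 4, 2, 3, 5, 4, 2, 1, 3, 6, 4, 2], [2, 1, 2, 1, 5, 4, 2, 1, 3, 2, 5, 4, 2, 1, 3, 2, 4, 6, 4, 2], [0, 3, 2, 1, 2, 3, 6, 4, 2, 1, 2, 3, 6], [1, 2, 1, 2, 3, 2, 1, 4, 2, 1, 5, 4, 2, 1, 5, 4, 2, 3, 6, 4], [0, 1, 2, 1, 4, 2, 3, 6, 4, 2, 1,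 6, 4, 2, 1], [0, 1, 4, 2, 1, 2, 3, 2, 5, 4, 2, 1, 3, 2, 1, 5, 4], [1, 3, 2, 4, 5, 4, 2, 1, 3, 2, 1, 2, 4, 2, 1, 2, 6], [2, 1, 2, 1, 4, 2, 1, 3, 2, 6, 4, 2, 1, 3, 2, 6, 4, 2], [2, 1, 2, 1, 6, 4, 2, 1, 3, 2, 6, 4, 2, 1, 3, 2, 4, 5, 4, 2], [1, 3, 2, 4, 2, 1, 3, 2, 1, 2, 5, 4, 2, 1, 2, 6], [1, 3, 2, 1, 2, 5, 4, 2, 1, 2, 1, 3, 2, 6, 4, 2], [0, 4, 2, 1, 2, 3, 2, 5, 4, 2, 1, 3, 2, 5, 4], [1, 4, 2, 1, 3, 2, 6, 4, 2, 1, 3, 2, 1, 6, 4, 2], [0, 1, 2, 1, 2, 3, 2, 6, 4, 2, 1, 3, 2, 1, 6], [1, 2, 4, 2, 1, 2, 1, 3, 2, 5, 4, 2, 1, 3, 2, 5], [2, 1, 2, 1, 3, 2, 4, 2, 1, 3, 2, 1, 2, 5, 4, 6], [0, 1, 3, 2, 1, 2, 3, 4, 2, 1, 2, 1, 3], [0, 6, 4, 2, 1, 2, 3, 2, 5, 4, 2,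 1, 3, 2, 5, 4, 6], [0, 2, 1, 2, 4, 2, 1, 2, 3, 2, 5, 4, 2, 1, 3, 2, 5, 4, 2, 1, 2], [0, 2, 3, 5, 4, 2, 5], [1, 2, 1, 2, 4, 2, 1, 2, 1, 3, 2, 6, 4, 2, 3, 5], [1, 6, 4, 2, 1, 3, 2, 6, 4, 2, 1, 3, 2, 1, 4, 5, 4, 2], [2, 1, 3, 2, 1, 4, 2, 1, 3, 2, 5, 4, 2, 1, 2, 3, 2, 6, 4, 2], [1, 2, 1, 3, 6, 4, 2, 1, 2, 5, 4, 2, 1, 2, 3, 4, 6, 4], [0, 3, 4, 2, 1, 2, 3, 2, 6, 4, 2, 1, 2, 3, 2, 5, 4], [0, 2, 4, 2, 1, 2, 3, 6, 4, 2, 1, 2, 5, 4, 2], [0, 1, 4, 2, 1, 2, 3, 2, 6, 4, 2, 1, 3, 2, 1, 6, 4], [0, 3, 4, 2, 1, 2, 3, 6, 4, 2, 1, 2, 3, 6, 4], [0, 1, 4, 2, 1, 3, 5, 4, 2, 1, 3, 6, 4, 2, 1, 6, 4, 2, 1, 2], [1, 2, 3, 2, 1, 4, 2, 1, 2, 6, 4, 2, 1, 2, 5, 4], [1, 2, 1, 5,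 4, 2, 1, 3, 2, 5, 4, 2, 1, 3, 2, 4, 6, 4], [0, 1, 2, 1, 5, 4, 2, 3, 6, 4, 2, 1, 6, 4, 2, 1, 6], [0, 1, 2, 3, 2, 6, 4, 2, 1, 3, 5], [0, 3, 4, 2, 3, 5, 4, 2, 3, 6, 4], [1, 2, 1, 2, 4, 2, 1, 2, 1, 3, 2, 5, 4, 2, 3, 6], [0, 3, 2, 1, 2, 1, 4, 2, 3, 5, 4, 2, 1, 5, 4, 2, 1, 2, 3], [0, 2, 1, 3, 2, 1, 2, 3, 5, 4, 2, 1, 2, 1, 3, 2, 6], [0, 1, 5, 4, 2, 3, 6, 4, 2, 1, 6, 4, 5], [0, 2, 1, 2, 3, 2, 4, 2, 1, 3, 2], [0, 2, 3, 2, 5, 4, 2, 3, 6], [1, 2, 3, 2, 1, 4, 2, 6, 4, 2, 1, 2, 1, 4, 2, 5, 4, 6], [1, 3, 5, 4, 2, 1, 2, 6, 4, 2, 1, 2, 1, 3, 4, 5, 4, 2], [0, 1, 2, 3, 5, 4, 2, 1, 5], [0, 1, 2, 3, 2, 4, 2, 1, 3], [0, 1, 2, 1, 2, 3, 4, 2, 1, 2, 5, 4, 2, 1, 2, 3, 5, 4,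 2, 1, 2], [0, 1, 5, 4, 2, 1, 2, 3, 5, 4, 2, 1, 2, 1, 6, 4, 5], [2, 1, 2, 1, 3, 2, 5, 4, 2, 1, 3, 2, 1, 2, 6, 4], [1, 4, 2, 1, 3, 2, 5, 4, 2, 1, 3, 2, 1, 5, 4, 2], [1, 4, 2, 1, 2, 3, 2, 1, 4, 2, 1, 5, 4, 2, 1, 5, 4, 2, 3, 6], [0, 2, 1, 4, 2, 3, 5, 4, 2, 1, 5, 4, 2], [0, 1, 3, 4, 2, 1, 2, 3, 2, 6, 4, 2, 1, 2, 3, 2, 1, 5, 4], [1, 2, 1, 6, 4, 2, 1, 3, 2, 6, 4, 2, 1, 3, 2, 4, 5, 4], [0, 2, 3, 2, 1, 4, 2, 3, 5, 4, 2, 1, 3, 6, 4, 2, 3], [2, 4, 5, 4, 2, 1, 2, 3, 2, 1, 4, 2, 1, 6, 4, 2, 1, 2, 5, 4], [3, 2, 1, 2, 1, 4, 2, 1, 3, 2, 5, 4, 2, 1, 3, 2, 5, 4, 2, 3], [1, 2, 1, 3, 4, 2, 1, 5, 4, 2, 1, 5, 4, 2, 1, 3, 6, 4, 2, 3], [1, 2, 1, 4, 2, 1, 5, 4, 2, 1, 3, 6,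 4, 2, 1, 3, 2, 1, 4, 5], [4, 2, 1, 2, 1, 4, 2, 6, 4, 2, 1, 2, 3, 2, 1, 5, 4, 2, 5, 4, 6], [1, 2, 1, 2, 1, 3, 2, 4, 2, 1, 3, 2, 1, 2], [0, 1, 2, 1, 5, 4, 2, 1, 3, 6, 4, 2, 1, 3, 2, 6, 4, 2, 1, 6, 4, 2], [1, 3, 2, 5, 4, 2, 1, 3, 2, 1, 2, 6, 4, 2, 1, 2], [1, 2, 3, 2, 1, 4, 2, 5, 4, 2, 1, 2, 1, 4, 2, 6, 4, 5], [0, 4, 2, 3, 5, 4, 2, 5, 4], [1, 2, 1, 3, 4, 2, 1, 2, 5, 4, 2, 1, 2, 3, 5, 4], [1, 4, 2, 1, 5, 4, 2, 1, 3, 2, 5, 4, 2, 1, 3, 2, 4, 6], [2, 1, 2, 1, 4, 2, 1, 3, 2, 5, 4, 2, 1, 3, 2, 5, 4, 2], [0, 1, 2, 1, 2, 3, 6, 4, 2, 1, 2, 1, 5], [1, 3, 4, 2, 1, 3, 2, 6, 4, 2, 1, 3, 2, 1, 6, 4, 2, 3], [0, 2, 1, 2, 3, 2, 6, 4, 2, 1, 3, 2, 6], [0, 2, 4, 2, 1, 2,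 3, 5, 4, 2, 1, 2, 6, 4, 2], [0, 2, 1, 3, 2, 1, 4, 2, 3, 5, 4, 2, 1, 5, 4, 2, 1, 3, 2], [0, 1, 2, 1, 2, 3, 5, 4, 2, 1, 2, 1, 6], [0, 3, 2, 1, 2, 3, 5, 4, 2, 1, 2, 3, 5], [0, 1, 2, 4, 2, 1, 2, 3, 2, 5, 4, 2, 1, 3, 2, 5, 4, 2, 1], [1, 4, 2, 6, 4, 2, 1, 2, 3, 2, 1, 4, 2, 1, 5, 4, 2, 5], [0, 1, 3, 2, 1, 4, 2, 3, 6, 4, 2, 1, 6, 4, 2, 1, 3], [1, 4, 2, 1, 2, 3, 2, 1, 4, 2, 1, 6, 4, 2, 1, 6, 4, 2, 3, 5], [0, 3, 2, 4, 2, 1, 2, 3, 5, 4, 2, 1, 2, 6, 4, 2, 3], [1, 3, 4, 2, 1, 5, 4, 2, 1, 5, 4, 2, 1, 3, 6, 4, 2, 1, 3, 2], [0, 2, 1, 2, 3, 4, 2, 1, 2], [2, 1, 2, 1, 3, 2, 4, 2, 1, 3, 2, 1, 2, 6, 4, 5], [0, 1, 2, 1, 4, 2, 1, 3, 6, 4, 2, 1, 3, 5, 4, 2, 1, 5, 4, 2], [0,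 1, 6, 4, 2, 1, 2, 3, 2, 5, 4, 2, 1, 3, 2, 1, 5, 4, 6], [0, 3, 2, 1, 6, 4, 2, 3, 5, 4, 2, 1, 5, 4, 2, 3, 6], [0, 3, 4, 2, 3, 6, 4, 2, 3, 5, 4], [2, 3, 2, 4, 2, 1, 2, 5, 4, 2, 1, 2, 1, 3, 5, 4, 2, 1, 2, 3], [0, 2, 3, 4, 2, 1, 2, 3, 5, 4, 2, 1, 2, 3, 5, 4, 2], [2, 1, 4, 2, 5, 4, 2, 1, 2, 1, 3, 5, 4, 2, 1, 3, 2, 4], [1, 2, 1, 3, 2, 6, 4, 2, 1, 3, 2, 1, 2, 5, 4, 2], [0, 2, 1, 3, 2, 1, 4, 2, 3, 6, 4, 2, 1, 6, 4, 2, 1, 3, 2], [1, 3, 2, 4, 6, 4, 2, 1, 3, 2, 1, 2, 4, 2, 1, 2, 5], [0, 1, 3, 2, 1, 2, 3, 5, 4, 2, 1, 2, 1, 3, 5], [2, 1, 3, 4, 2, 5, 4, 2, 1, 3, 2, 1, 5, 4, 2, 1, 2, 4], [1, 2, 1, 2, 5, 4, 2, 1, 2, 1, 3, 2, 6, 4, 2, 3], [0, 2, 3, 2, 1, 4, 2, 3, 6,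 4, 2, 1, 3, 5, 4, 2, 3], [0, 1, 4, 2, 3, 5, 4, 2, 1, 5, 4], [1, 2, 5, 4, 2, 1, 3, 2, 1, 2, 6, 4, 2, 1, 2, 3], [0, 3, 2, 1, 5, 4, 2, 3, 6, 4, 2, 1, 6, 4, 2, 3, 5], [0, 2, 3, 6, 4, 2, 6], [2, 1, 3, 2, 1, 2, 5, 4, 2, 1, 2, 1, 3, 2, 6, 4], [0, 2, 1, 2, 1, 4, 2, 3, 5, 4, 2, 1, 5, 4, 2, 1, 2], [0, 1, 2, 1, 2, 3, 2, 4, 2, 1, 3, 2, 1], [0, 1, 6, 4, 2, 3, 5, 4, 2, 1, 5, 4, 6], [1, 2, 1, 4, 2, 5, 4, 2, 1, 2, 3, 2, 1, 4, 2, 6, 4, 5], [0, 4, 2, 3, 6, 4, 2, 6, 4], [0, 1, 3, 4, 2, 3, 6, 4, 2, 1, 3, 5, 4], [0, 2, 3, 4, 2, 1, 2, 3, 2, 6, 4, 2, 1, 2, 3, 2, 5, 4, 2], [0, 1, 2, 1, 2, 3, 4, 2, 1, 2, 6, 4, 2, 1, 2, 3, 6, 4, 2, 1, 2], [0, 1, 2, 3, 4, 2, 1], [1, 2, 1, 2,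 1, 3, 2, 5, 4, 2, 1, 3, 2, 1, 2, 6], [0, 6, 4, 2, 1, 2, 3, 6, 4, 2, 1, 2, 5, 4, 6], [0, 4, 2, 1, 2, 3, 2, 6, 4, 2, 1, 3, 2, 6, 4], [0, 1, 3, 2, 1, 4, 2, 3, 5, 4, 2, 1, 5, 4, 2, 1, 3], [1, 2, 1, 4, 2, 1, 3, 5, 4, 2, 1, 5, 4, 2, 1, 2, 3, 4, 2], [1, 3, 2, 1, 4, 2, 1, 3, 2, 5, 4, 2, 1, 2, 3, 2, 6, 4], [1, 2, 3, 2, 1, 4, 2, 1, 2, 5, 4, 2, 1, 2, 6, 4], [1, 2, 1, 2, 6, 4, 2, 1, 2, 1, 3, 2, 5, 4, 2, 3], [0, 2, 1, 2, 3, 6, 4, 2, 1, 2, 5], [0, 1, 4, 2, 1, 2, 3, 5, 4, 2, 1, 2, 1, 6, 4], [2, 1, 2, 1, 4, 2, 6, 4, 2, 1, 2, 3, 2, 1, 4, 2, 5, 4, 2, 5], [0, 3, 4], [1, 2, 3, 2, 1, 4, 2, 1, 5, 4, 2, 1, 5, 4, 2, 1, 3, 6, 4, 2], [1, 2, 1, 4, 2, 1, 5, 4, 2, 1, 3, 6, 4,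 2, 1, 2, 3, 2, 4, 6], [0, 2, 1, 5, 4, 2, 3, 6, 4, 2, 1, 6, 4, 2, 6], [2, 1, 2, 1, 3, 4, 2, 6, 4, 2, 1, 2, 1, 4, 2, 3, 6, 4, 2, 6], [0, 1, 2, 3, 6, 4, 2, 1, 6], [0, 2, 3, 4, 2, 1, 2, 3, 2, 5, 4, 2, 1, 2, 3, 2, 6, 4, 2], [2, 3, 2, 1, 4, 2, 6, 4, 2, 1, 3, 2, 1, 6, 4, 2, 1, 2, 3, 4], [0, 1, 3, 4, 2, 1, 2, 3, 5, 4, 2, 1, 2, 1, 3, 5, 4], [1, 3, 2, 4, 2, 1, 3, 2, 1, 2, 6, 4, 2, 1, 2, 5], [0, 1, 2, 4, 2, 1, 2, 3, 2, 6, 4, 2, 1, 3, 2, 6, 4, 2, 1], [1, 2, 1, 4, 2, 1, 3, 2, 6, 4, 2, 1, 3, 2, 6, 4], [0, 1, 2, 3, 2, 1, 2, 3, 6, 4, 2, 1, 2, 3, 2, 1, 5], [1, 2, 1, 3, 5, 4, 2, 1, 2, 6, 4, 2, 1, 2, 3, 4, 5, 4], [2, 1, 4, 2, 6, 4, 2, 1, 2, 1, 3, 6, 4, 2, 1, 3, 2, 4],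 [1, 4, 2, 1, 6, 4, 2, 1, 3, 2, 6, 4, 2, 1, 3, 2, 4, 5], [0, 2, 1, 3, 4, 2, 3, 6, 4, 2, 1, 3, 5, 4, 2], [0, 1, 3, 4, 2, 1, 2, 3, 6, 4, 2, 1, 2, 1, 3, 6, 4], [0, 4, 2, 1, 2, 3, 6, 4, 2, 1, 2, 5, 4], [1, 3, 2, 1, 4, 2, 1, 3, 2, 6, 4, 2, 1, 2, 3, 2, 5, 4], [0, 1, 3, 4, 2, 1, 2, 3, 2, 5, 4, 2, 1, 2, 3, 2, 1, 6, 4], [1, 2, 1, 2, 4, 6, 4, 2, 1, 2, 1, 3, 2, 4, 2, 3, 5], [0, 2, 3, 2, 1, 2, 3, 6, 4, 2, 1, 2, 3, 2, 5], [0, 1, 2, 1, 4, 2, 1, 3, 5, 4, 2, 1, 3, 6, 4, 2, 1, 6, 4, 2], [0, 5, 4, 2, 1, 2, 3, 2, 6, 4, 2, 1, 3, 2, 6, 4, 5], [0, 3, 2, 1, 2, 3, 4, 2, 1, 2, 3], [0, 3, 5, 4, 6], [0, 1, 4, 2, 3, 6, 4, 2, 1, 6, 4], [0, 1, 2, 1, 6, 4, 2, 3, 5, 4, 2, 1, 5, 4,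 2, 1, 5], [1, 2, 1, 3, 4, 2, 6, 4, 2, 1, 2, 1, 4, 2, 3, 6, 4, 5], [1, 2, 1, 2, 1, 3, 4, 2, 1, 2, 5, 4, 2, 1, 2, 3, 5, 4, 2, 1], [0, 1, 2, 3, 2, 1, 2, 3, 5, 4, 2, 1, 2, 3, 2, 1, 6], [0, 3, 2, 1, 4, 2, 3, 5, 4, 2, 1, 5, 4, 2, 3], [0, 2, 1, 2, 3, 2, 5, 4, 2, 1, 3, 2, 5], [0, 1, 2, 1, 4, 2, 3, 5, 4, 2, 1, 5, 4, 2, 1], [1, 3, 4, 2, 1, 2, 6, 4, 2, 1, 2, 1, 3, 6, 4, 2], [0, 2, 4, 2, 1, 2, 3, 2, 5, 4, 2, 1, 3, 2, 5, 4, 2], [0, 1, 4, 2, 1, 2, 3, 6, 4, 2, 1, 2, 1, 5, 4], [3, 2, 1, 2, 1, 4, 2, 1, 3, 2, 6, 4, 2, 1, 3, 2, 6, 4, 2, 3], [1, 2, 1, 3, 4, 2, 5, 4, 2, 1, 2, 1, 4, 2, 3, 5, 4, 6], [0, 1, 2, 1, 4, 2, 5, 4, 2, 1, 2, 3, 2, 1, 6, 4, 2, 1, 6, 4, 2, 6], [2,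 3, 2, 4, 2, 1, 2, 6, 4, 2, 1, 2, 1, 3, 6, 4, 2, 1, 2, 3], [1, 5, 4, 2, 1, 3, 2, 5, 4, 2, 1, 3, 2, 1, 4, 6, 4, 2], [0, 2, 3, 2, 1, 2, 3, 4, 2, 1, 2, 3, 2], [0, 6, 4, 2, 3, 5, 4, 2, 5, 4, 6], [2, 1, 3, 2, 1, 2, 6, 4, 2, 1, 2, 1, 3, 2, 5, 4], [0, 3, 2, 1, 2, 1, 4, 2, 3, 6, 4, 2, 1, 6, 4, 2, 1, 2, 3], [2, 1, 2, 1, 3, 4, 2, 1, 2, 5, 4, 2, 1, 2, 3, 5, 4, 2], [1, 3, 2, 6, 4, 2, 1, 3, 2, 1, 2, 5, 4, 2, 1, 2], [1, 2, 1, 3, 2, 4, 2, 1, 3, 2, 1, 2, 5, 4, 2, 5], [2, 1, 2, 1, 3, 4, 2, 5, 4, 2, 1, 2, 1, 4, 2, 3, 5, 4, 2, 5], [2, 1, 2, 1, 3, 2, 6, 4, 2, 1, 3, 2, 1, 2, 5, 4], [0, 5, 4, 2, 1, 2, 3, 5, 4, 2, 1, 2, 6, 4, 5], [2, 1, 2, 3, 2, 1, 4, 2, 6, 4, 2, 1, 2, 1,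 4, 2, 5, 4, 2, 5], [0, 2, 3, 4, 2], [0, 1, 2, 1, 2, 3, 2, 5, 4, 2, 1, 3, 2, 1, 5], [0, 3, 2, 4, 2, 1, 2, 3, 6, 4, 2, 1, 2, 5, 4, 2, 3], [2, 1, 2, 3, 2, 1, 4, 2, 1, 2, 6, 4, 2, 1, 2, 5, 4, 2], [1, 2, 1, 2, 4, 5, 4, 2, 1, 2, 1, 3, 2, 4, 2, 3, 6], [0, 3, 4, 2, 1, 2, 3, 5, 4, 2, 1, 2, 3, 5, 4], [0, 1, 3, 2, 1, 2, 3, 6, 4, 2, 1, 2, 1, 3, 6], [1, 2, 4, 2, 1, 3, 2, 1, 2, 6, 4, 2, 1, 2, 3, 6], [1, 3, 4, 2, 1, 2, 5, 4, 2, 1, 2, 1, 3, 5, 4, 2], [], [1, 2, 1, 3, 4, 2, 1, 6, 4, 2, 1, 6, 4, 2, 1, 3, 5, 4, 2, 3], [2, 1, 2, 1, 4, 2, 5, 4, 2, 1, 2, 3, 2, 1, 4, 2, 6, 4, 2, 6], [2, 1, 4, 2, 1, 6, 4, 2, 1, 3, 5, 4, 2, 1, 3, 2, 4, 6], [0, 2, 1, 2, 4, 2, 1, 2, 3, 5, 4,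 2, 1, 2, 6, 4, 2, 1, 2], [1, 2, 1, 3, 2, 5, 4, 2, 1, 3, 2, 1, 2, 6, 4, 2], [0, 3, 2, 1, 4, 2, 3, 6, 4, 2, 1, 6, 4, 2, 3], [0, 3, 4, 2, 1, 2, 3, 2, 5, 4, 2, 1, 2, 3, 2, 6, 4], [2, 1, 3, 2, 4, 2, 1, 3, 2, 4, 5, 4, 2, 1, 2, 1, 4, 2, 5, 4, 6], [0, 1, 3, 4, 2, 3, 5, 4, 2, 1, 3, 6, 4], [1, 2, 1, 3, 2, 4, 2, 1, 3, 2, 1, 2, 6, 4, 2, 6], [1, 3, 6, 4, 2, 1, 2, 5, 4, 2, 1, 2, 1, 3, 4, 6, 4, 2], [0, 2, 1, 2, 1, 3, 4, 2, 3, 5, 4, 2, 1, 3, 6, 4, 2, 1, 2], [1, 4, 2, 5, 4, 2, 1, 2, 3, 2, 1, 4, 2, 1, 6, 4, 2, 6], [0, 4, 2, 1, 2, 3, 5, 4, 2, 1, 2, 6, 4], [1, 3, 2, 1, 2, 6, 4, 2, 1, 2, 1, 3, 2, 5, 4, 2], [1, 4, 2, 5, 4, 2, 1, 3, 2, 1, 2, 6, 4, 2, 1, 2, 3, 4], [0, 2,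 1, 6, 4, 2, 3, 5, 4, 2, 1, 5, 4, 2, 5], [0, 1, 2, 1, 6, 4, 2, 1, 3, 5, 4, 2, 1, 3, 2, 5, 4, 2, 1, 5, 4, 2], [2, 1, 3, 2, 4, 2, 1, 3, 2, 4, 6, 4, 2, 1, 2, 1, 4, 2, 6, 4, 5], [0, 1, 4, 2, 1, 3, 6, 4, 2, 1, 3, 5, 4, 2, 1, 5, 4, 2, 1, 2], [0, 2, 4, 2, 1, 2, 3, 2, 6, 4, 2, 1, 3, 2, 6, 4, 2], [2, 1, 3, 4, 2, 6, 4, 2, 1, 3, 2, 1, 6, 4, 2, 1, 2, 4], [0, 1, 2, 1, 3, 4, 2, 3, 5, 4, 2, 1, 3, 6, 4, 2, 1], [0, 1, 6, 4, 2, 1, 2, 3, 6, 4, 2, 1, 2, 1, 5, 4, 6], [2, 1, 2, 3, 2, 1, 4, 2, 5, 4, 2, 1, 2, 1, 4, 2, 6, 4, 2, 6], [1, 2, 1, 2, 1, 3, 2, 6, 4, 2, 1, 3, 2, 1, 2, 5], [0, 2, 3, 2, 4, 2, 3], [1, 2, 4, 2, 1, 2, 1, 3, 2, 6, 4, 2, 1, 3, 2, 6], [0, 2, 3, 2, 1, 2, 3,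 5, 4, 2, 1, 2, 3, 2, 6], [1, 3, 4, 2, 1, 6, 4, 2, 1, 6, 4, 2, 1, 3, 5, 4, 2, 1, 3, 2], [0, 1, 2, 4, 2, 1, 2, 3, 6, 4, 2, 1, 2, 5, 4, 2, 1], [1, 2, 1, 3, 4, 2, 1, 2, 6, 4, 2, 1, 2, 3, 6, 4], [0, 2, 1, 2, 1, 3, 4, 2, 3, 6, 4, 2, 1, 3, 5, 4, 2, 1, 2], [1, 4, 2, 1, 2, 6, 4, 2, 1, 2, 1, 3, 6, 4, 2, 3], [2, 3, 2, 1, 4, 2, 5, 4, 2, 1, 3, 2, 1, 5, 4, 2, 1, 2, 3, 4], [1, 2, 5, 4, 2, 1, 2, 1, 3, 2, 6, 4, 2, 1, 3, 2], [1, 3, 2, 4, 2, 1, 3, 2, 5, 4, 2, 1, 2, 1, 4, 2, 5, 4, 6], [0, 1, 2, 3, 2, 5, 4, 2, 1, 3, 6], [0, 1, 2, 1, 4, 2, 6, 4, 2, 1, 2, 3, 2, 1, 5, 4, 2, 1, 5, 4, 2, 5], [1, 2, 1, 4, 2, 1, 3, 6, 4, 2, 1, 6, 4, 2, 1, 2, 3, 4, 2], [0, 1, 2, 4, 2, 1, 2, 3,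 5, 4, 2, 1, 2, 6, 4, 2, 1], [0, 2, 1, 4, 2, 3, 6, 4, 2, 1, 6, 4, 2], [2, 1, 2, 3, 2, 1, 4, 2, 1, 2, 5, 4, 2, 1, 2, 6, 4, 2], [0, 1, 5, 4, 2, 1, 2, 3, 2, 6, 4, 2, 1, 3, 2, 1, 6, 4, 5], [0, 1, 2, 1, 2, 3, 4, 2, 1, 2, 1], [0, 2, 1, 2, 4, 2, 1, 2, 3, 2, 6, 4, 2, 1, 3, 2, 6, 4, 2, 1, 2], [0, 3, 6, 4, 5], [1, 2, 1, 4, 2, 1, 3, 2, 5, 4, 2, 1, 3, 2, 5, 4], [1, 2, 1, 2, 3, 2, 1, 4, 2, 1, 6, 4, 2, 1, 6, 4, 2, 3, 5, 4], [0, 2, 1, 2, 4, 2, 1, 2, 3, 6, 4, 2, 1, 2, 5, 4, 2, 1, 2], [1, 3, 4, 2, 1, 3, 2, 5, 4, 2, 1, 3, 2, 1, 5, 4, 2, 3], [0, 5, 4, 2, 3, 6, 4, 2, 6, 4, 5], [0, 2, 1, 3, 2, 1, 2, 3, 6, 4, 2, 1, 2, 1, 3, 2, 5], [0, 1, 2, 3, 2, 1, 2, 3, 4, 2, 1, 2, 3,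 2, 1], [0, 2, 1, 2, 1, 4, 2, 3, 6, 4, 2, 1, 6, 4, 2, 1, 2], [1, 2, 4, 2, 1, 3, 2, 1, 2, 5, 4, 2, 1, 2, 3, 5], [2, 4, 6, 4, 2, 1, 2, 3, 2, 1, 4, 2, 1, 5, 4, 2, 1, 2, 6, 4], [0, 1, 2, 1, 3, 4, 2, 3, 6, 4, 2, 1, 3, 5, 4, 2, 1], [0, 2, 1, 2, 3, 5, 4, 2, 1, 2, 6], [1, 2, 1, 2, 1, 3, 4, 2, 1, 2, 6, 4, 2, 1, 2, 3, 6, 4, 2, 1], [2, 1, 3, 2, 1, 4, 2, 1, 3, 2, 6, 4, 2, 1, 2, 3, 2, 5, 4, 2], [1, 3, 2, 4, 2, 1, 3, 2, 6, 4, 2, 1, 2, 1, 4, 2, 6, 4, 5], [0, 2, 3, 4, 2, 1, 2, 3, 6, 4, 2, 1, 2, 3, 6, 4, 2], [2, 1, 2, 1, 4, 2, 6, 4, 2, 1, 2, 3, 2, 1, 4, 2, 5, 4, 2, 5], [1, 2, 1, 4, 2, 1, 5, 4, 2, 1, 3, 6, 4, 2, 1, 2, 3, 2, 4, 6], [0, 3, 4], [1, 2, 3, 2, 1, 4, 2, 1,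 5, 4, 2, 1, 5, 4, 2, 1, 3, 6, 4, 2], [1, 2, 1, 4, 2, 1, 3, 2, 6, 4, 2, 1, 3, 2, 6, 4], [2, 1, 4, 2, 6, 4, 2, 1, 2, 1, 3, 6, 4, 2, 1, 3, 2, 4], [0, 1, 2, 3, 2, 1, 2, 3, 6, 4, 2, 1, 2, 3, 2, 1, 5], [1, 2, 1, 3, 5, 4, 2, 1, 2, 6, 4, 2, 1, 2, 3, 4, 5, 4], [0, 2, 1, 5, 4, 2, 3, 6, 4, 2, 1, 6, 4, 2, 6], [0, 2, 3, 4, 2, 1, 2, 3, 2, 5, 4, 2, 1, 2, 3, 2, 6, 4, 2], [2, 1, 2, 1, 3, 4, 2, 6, 4, 2, 1, 2, 1, 4, 2, 3, 6, 4, 2, 6], [0, 1, 2, 3, 6, 4, 2, 1, 6], [2, 3, 2, 1, 4, 2, 6, 4, 2, 1, 3, 2, 1, 6, 4, 2, 1, 2, 3, 4], [0, 1, 2, 4, 2, 1, 2, 3, 2, 6, 4, 2, 1, 3, 2, 6, 4, 2, 1], [0, 1, 3, 4, 2, 1, 2, 3, 5, 4, 2, 1, 2, 1, 3, 5, 4], [1, 3, 2, 4, 2, 1, 3, 2, 1, 2, 6,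 4, 2, 1, 2, 5], [2, 1, 2, 1, 3, 4, 2, 1, 2, 5, 4, 2, 1, 2, 3, 5, 4, 2], [2, 1, 2, 1, 3, 4, 2, 5, 4, 2, 1, 2, 1, 4, 2, 3, 5, 4, 2, 5], [1, 3, 2, 6, 4, 2, 1, 3, 2, 1, 2, 5, 4, 2, 1, 2], [1, 2, 1, 3, 2, 4, 2, 1, 3, 2, 1, 2, 5, 4, 2, 5], [0, 3, 4, 2, 1, 2, 3, 5, 4, 2, 1, 2, 3, 5, 4], [1, 3, 4, 2, 1, 2, 5, 4, 2, 1, 2, 1, 3, 5, 4, 2], [0, 1, 3, 2, 1, 2, 3, 6, 4, 2, 1, 2, 1, 3, 6], [1, 2, 4, 2, 1, 3, 2, 1, 2, 6, 4, 2, 1, 2, 3, 6], [2, 1, 2, 1, 3, 2, 6, 4, 2, 1, 3, 2, 1, 2, 5, 4], [0, 2, 3, 4, 2], [0, 5, 4, 2, 1, 2, 3, 5, 4, 2, 1, 2, 6, 4, 5], [2, 1, 2, 3, 2, 1, 4, 2, 6, 4, 2, 1, 2, 1, 4, 2, 5, 4, 2, 5], [0, 1, 2, 1, 2, 3, 2, 5, 4, 2, 1, 3, 2, 1, 5], [1, 2,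 1, 2, 4, 5, 4, 2, 1, 2, 1, 3, 2, 4, 2, 3, 6], [0, 3, 2, 4, 2, 1, 2, 3, 6, 4, 2, 1, 2, 5, 4, 2, 3], [2, 1, 2, 3, 2, 1, 4, 2, 1, 2, 6, 4, 2, 1, 2, 5, 4, 2], [1, 4, 2, 1, 6, 4, 2, 1, 3, 2, 6, 4, 2, 1, 3, 2, 4, 5], [0, 4, 2, 1, 2, 3, 6, 4, 2, 1, 2, 5, 4], [0, 2, 1, 3, 4, 2, 3, 6, 4, 2, 1, 3, 5, 4, 2], [0, 1, 3, 4, 2, 1, 2, 3, 6, 4, 2, 1, 2, 1, 3, 6, 4], [0, 1, 4, 2, 3, 6, 4, 2, 1, 6, 4], [1, 2, 1, 2, 1, 3, 4, 2, 1, 2, 5, 4, 2, 1, 2, 3, 5, 4, 2, 1], [0, 1, 2, 1, 6, 4, 2, 3, 5, 4, 2, 1, 5, 4, 2, 1, 5], [1, 2, 1, 3, 4, 2, 6, 4, 2, 1, 2, 1, 4, 2, 3, 6, 4, 5], [1, 3, 2, 1, 4, 2, 1, 3, 2, 6, 4, 2, 1, 2, 3, 2, 5, 4], [0, 2, 3, 2, 1, 2, 3, 6, 4, 2, 1, 2, 3, 2,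 5], [0, 1, 3, 4, 2, 1, 2, 3, 2, 5, 4, 2, 1, 2, 3, 2, 1, 6, 4], [1, 2, 1, 2, 4, 6, 4, 2, 1, 2, 1, 3, 2, 4, 2, 3, 5], [0, 1, 2, 1, 4, 2, 1, 3, 5, 4, 2, 1, 3, 6, 4, 2, 1, 6, 4, 2], [0, 3, 5, 4, 6], [0, 5, 4, 2, 1, 2, 3, 2, 6, 4, 2, 1, 3, 2, 6, 4, 5], [0, 3, 2, 1, 2, 3, 4, 2, 1, 2, 3], [0, 1, 2, 3, 2, 1, 2, 3, 5, 4, 2, 1, 2, 3, 2, 1, 6], [0, 1, 2, 1, 4, 2, 3, 5, 4, 2, 1, 5, 4, 2, 1], [0, 3, 2, 1, 4, 2, 3, 5, 4, 2, 1, 5, 4, 2, 3], [0, 2, 1, 2, 3, 2, 5, 4, 2, 1, 3, 2, 5], [0, 2, 3, 2, 1, 2, 3, 4, 2, 1, 2, 3, 2], [0, 3, 2, 1, 2, 1, 4, 2, 3, 6, 4, 2, 1, 6, 4, 2, 1, 2, 3], [0, 6, 4, 2, 3, 5, 4, 2, 5, 4, 6], [2, 1, 3, 2, 1, 2, 6, 4, 2, 1, 2, 1, 3, 2, 5, 4],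 [1, 3, 4, 2, 1, 2, 6, 4, 2, 1, 2, 1, 3, 6, 4, 2], [3, 2, 1, 2, 1, 4, 2, 1, 3, 2, 6, 4, 2, 1, 3, 2, 6, 4, 2, 3], [0, 2, 4, 2, 1, 2, 3, 2, 5, 4, 2, 1, 3, 2, 5, 4, 2], [0, 1, 4, 2, 1, 2, 3, 6, 4, 2, 1, 2, 1, 5, 4], [1, 2, 1, 3, 4, 2, 5, 4, 2, 1, 2, 1, 4, 2, 3, 5, 4, 6], [1, 5, 4, 2, 1, 3, 2, 5, 4, 2, 1, 3, 2, 1, 4, 6, 4, 2], [0, 1, 2, 1, 4, 2, 5, 4, 2, 1, 2, 3, 2, 1, 6, 4, 2, 1, 6, 4, 2, 6], [2, 3, 2, 4, 2, 1, 2, 6, 4, 2, 1, 2, 1, 3, 6, 4, 2, 1, 2, 3], [2, 1, 4, 2, 1, 5, 4, 2, 1, 3, 6, 4, 2, 1, 3, 2, 4, 5], [4, 2, 1, 2, 1, 4, 2, 5, 4, 2, 1, 2, 3, 2, 1, 6, 4, 2, 6, 4, 5], [1, 2, 3, 2, 1, 4, 2, 1, 6, 4, 2, 1, 6, 4, 2, 1, 3, 5, 4, 2], [0, 2, 1, 3, 2, 1,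 2, 3, 4, 2, 1, 2, 1, 3, 2], [1, 2, 1, 2, 3, 2, 1, 4, 2, 1, 5, 4, 2, 1, 5, 4, 2, 3, 6, 4], [1, 3, 2, 4, 5, 4, 2, 1, 3, 2, 1, 2, 4, 2, 1, 2, 6], [0, 1, 2, 1, 4, 2, 3, 6, 4, 2, 1, 6, 4, 2, 1], [0, 1, 4, 2, 1, 2, 3, 2, 5, 4, 2, 1, 3, 2, 1, 5, 4], [1, 4, 2, 5, 4, 2, 1, 2, 1, 3, 2, 6, 4, 2, 1, 3, 2, 4], [1, 2, 1, 4, 2, 6, 4, 2, 1, 2, 3, 2, 1, 4, 2, 5, 4, 6], [2, 1, 2, 1, 3, 4, 2, 1, 2, 6, 4, 2, 1, 2, 3, 6, 4, 2], [0, 2, 3, 2, 6, 4, 2, 3, 5], [1, 4, 2, 1, 2, 5, 4, 2, 1, 2, 1, 3, 5, 4, 2, 3], [0, 3, 2, 1, 2, 3, 6, 4, 2, 1, 2, 3, 6], [0, 2, 1, 3, 4, 2, 3, 5, 4, 2, 1, 3, 6, 4, 2], [2, 1, 2, 1, 5, 4, 2, 1, 3, 2, 5, 4, 2, 1, 3, 2, 4, 6, 4, 2], [0, 2, 3, 2, 5,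 4, 2, 3, 6], [0, 1, 2, 3, 5, 4, 2, 1, 5], [1, 2, 3, 2, 1, 4, 2, 6, 4, 2, 1, 2, 1, 4, 2, 5, 4, 6], [1, 3, 5, 4, 2, 1, 2, 6, 4, 2, 1, 2, 1, 3, 4, 5, 4, 2], [1, 2, 1, 6, 4, 2, 1, 3, 2, 6, 4, 2, 1, 3, 2, 4, 5, 4], [3, 2, 1, 2, 1, 4, 2, 1, 3, 2, 5, 4, 2, 1, 3, 2, 5, 4, 2, 3], [0, 2, 3, 2, 1, 4, 2, 3, 5, 4, 2, 1, 3, 6, 4, 2, 3], [2, 4, 5, 4, 2, 1, 2, 3, 2, 1, 4, 2, 1, 6, 4, 2, 1, 2, 5, 4], [0, 1, 2, 3, 2, 4, 2, 1, 3], [2, 1, 2, 1, 3, 2, 5, 4, 2, 1, 3, 2, 1, 2, 6, 4], [0, 1, 2, 1, 2, 3, 4, 2, 1, 2, 5, 4, 2, 1, 2, 3, 5, 4, 2, 1, 2], [0, 1, 5, 4, 2, 1, 2, 3, 5, 4, 2, 1, 2, 1, 6, 4, 5], [1, 4, 2, 1, 3, 2, 5, 4, 2, 1, 3, 2, 1, 5, 4, 2], [0, 1, 3, 4, 2, 1, 2,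 3, 2, 6, 4, 2, 1, 2, 3, 2, 1, 5, 4], [1, 4, 2, 1, 2, 3, 2, 1, 4, 2, 1, 5, 4, 2, 1, 5, 4, 2, 3, 6], [0, 2, 1, 4, 2, 3, 5, 4, 2, 1, 5, 4, 2], [2, 1, 2, 1, 4, 2, 1, 3, 2, 6, 4, 2, 1, 3, 2, 6, 4, 2], [1, 3, 2, 1, 2, 5, 4, 2, 1, 2, 1, 3, 2, 6, 4, 2], [2, 1, 2, 1, 6, 4, 2, 1, 3, 2, 6, 4, 2, 1, 3, 2, 4, 5, 4, 2], [1, 3, 2, 4, 2, 1, 3, 2, 1, 2, 5, 4, 2, 1, 2, 6], [0, 2, 3, 5, 4, 2, 5], [2, 1, 3, 2, 1, 4, 2, 1, 3, 2, 5, 4, 2, 1, 2, 3, 2, 6, 4, 2], [1, 2, 1, 2, 4, 2, 1, 2, 1, 3, 2, 6, 4, 2, 3, 5], [1, 6, 4, 2, 1, 3, 2, 6, 4, 2, 1, 3, 2, 1, 4, 5, 4, 2], [0, 4, 2, 1, 2, 3, 2, 5, 4, 2, 1, 3, 2, 5, 4], [1, 2, 4, 2, 1, 2, 1, 3, 2, 5, 4, 2, 1, 3, 2, 5], [1, 4, 2,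 1, 3, 2, 6, 4, 2, 1, 3, 2, 1, 6, 4, 2], [0, 1, 2, 1, 2, 3, 2, 6, 4, 2, 1, 3, 2, 1, 6], [2, 1, 2, 1, 3, 2, 4, 2, 1, 3, 2, 1, 2, 5, 4, 6], [0, 2, 1, 2, 4, 2, 1, 2, 3, 2, 5, 4, 2, 1, 3, 2, 5, 4, 2, 1, 2], [0, 1, 3, 2, 1, 2, 3, 4, 2, 1, 2, 1, 3], [0, 6, 4, 2, 1, 2, 3, 2, 5, 4, 2, 1, 3, 2, 5, 4, 6], [1, 2, 1, 3, 6, 4, 2, 1, 2, 5, 4, 2, 1, 2, 3, 4, 6, 4], [0, 1, 4, 2, 1, 2, 3, 2, 6, 4, 2, 1, 3, 2, 1, 6, 4], [0, 3, 4, 2, 1, 2, 3, 2, 6, 4, 2, 1, 2, 3, 2, 5, 4], [0, 2, 4, 2, 1, 2, 3, 6, 4, 2, 1, 2, 5, 4, 2], [0, 3, 2, 1, 2, 1, 4, 2, 3, 5, 4, 2, 1, 5, 4, 2, 1, 2, 3], [0, 2, 1, 2, 3, 2, 4, 2, 1, 3, 2], [0, 2, 1, 3, 2, 1, 2, 3, 5, 4, 2, 1, 2, 1, 3, 2, 6], [0,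 1, 5, 4, 2, 3, 6, 4, 2, 1, 6, 4, 5], [0, 3, 4, 2, 1, 2, 3, 6, 4, 2, 1, 2, 3, 6, 4], [1, 2, 1, 5, 4, 2, 1, 3, 2, 5, 4, 2, 1, 3, 2, 4, 6, 4], [0, 1, 4, 2, 1, 3, 5, 4, 2, 1, 3, 6, 4, 2, 1, 6, 4, 2, 1, 2], [1, 2, 3, 2, 1, 4, 2, 1, 2, 6, 4, 2, 1, 2, 5, 4], [0, 1, 2, 1, 5, 4, 2, 3, 6, 4, 2, 1, 6, 4, 2, 1, 6], [1, 2, 1, 2, 4, 2, 1, 2, 1, 3, 2, 5, 4, 2, 3, 6], [0, 1, 2, 3, 2, 6, 4, 2, 1, 3, 5], [0, 3, 4, 2, 3, 5, 4, 2, 3, 6, 4], [1, 2, 1, 3, 4, 2, 1, 5, 4, 2, 1, 5, 4, 2, 1, 3, 6, 4, 2, 3], [1, 2, 1, 2, 1, 3, 2, 4, 2, 1, 3, 2, 1, 2], [1, 2, 1, 4, 2, 1, 5, 4, 2, 1, 3, 6, 4, 2, 1, 3, 2, 1, 4, 5], [4, 2, 1, 2, 1, 4, 2, 6, 4, 2, 1, 2, 3, 2, 1, 5, 4, 2, 5, 4, 6],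 [1, 3, 4, 2, 1, 3, 2, 6, 4, 2, 1, 3, 2, 1, 6, 4, 2, 3], [0, 2, 1, 3, 2, 1, 4, 2, 3, 5, 4, 2, 1, 5, 4, 2, 1, 3, 2], [0, 2, 1, 2, 3, 2, 6, 4, 2, 1, 3, 2, 6], [0, 2, 4, 2, 1, 2, 3, 5, 4, 2, 1, 2, 6, 4, 2], [0, 1, 2, 1, 5, 4, 2, 1, 3, 6, 4, 2, 1, 3, 2, 6, 4, 2, 1, 6, 4, 2], [0, 4, 2, 3, 5, 4, 2, 5, 4], [1, 3, 2, 5, 4, 2, 1, 3, 2, 1, 2, 6, 4, 2, 1, 2], [1, 2, 3, 2, 1, 4, 2, 5, 4, 2, 1, 2, 1, 4, 2, 6, 4, 5], [1, 2, 1, 3, 4, 2, 1, 2, 5, 4, 2, 1, 2, 3, 5, 4], [0, 1, 2, 1, 2, 3, 6, 4, 2, 1, 2, 1, 5], [1, 4, 2, 1, 5, 4, 2, 1, 3, 2, 5, 4, 2, 1, 3, 2, 4, 6], [2, 1, 2, 1, 4, 2, 1, 3, 2, 5, 4, 2, 1, 3, 2, 5, 4, 2], [1, 2, 1, 4, 2, 5, 4, 2, 1, 2, 3, 2, 1, 4, 2, 6,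 4, 5], [0, 2, 3, 4, 2, 1, 2, 3, 2, 6, 4, 2, 1, 2, 3, 2, 5, 4, 2], [0, 4, 2, 3, 6, 4, 2, 6, 4], [0, 1, 3, 4, 2, 3, 6, 4, 2, 1, 3, 5, 4], [1, 2, 3, 2, 1, 4, 2, 1, 2, 5, 4, 2, 1, 2, 6, 4], [0, 1, 4, 2, 1, 2, 3, 5, 4, 2, 1, 2, 1, 6, 4], [1, 2, 1, 2, 6, 4, 2, 1, 2, 1, 3, 2, 5, 4, 2, 3], [0, 2, 1, 2, 3, 6, 4, 2, 1, 2, 5], [0, 1, 2, 1, 2, 3, 4, 2, 1, 2, 6, 4, 2, 1, 2, 3, 6, 4, 2, 1, 2], [0, 6, 4, 2, 1, 2, 3, 6, 4, 2, 1, 2, 5, 4, 6], [0, 1, 2, 3, 4, 2, 1], [1, 2, 1, 2, 1, 3, 2, 5, 4, 2, 1, 3, 2, 1, 2, 6], [0, 4, 2, 1, 2, 3, 2, 6, 4, 2, 1, 3, 2, 6, 4], [1, 3, 2, 1, 4, 2, 1, 3, 2, 5, 4, 2, 1, 2, 3, 2, 6, 4], [0, 1, 3, 2, 1, 4, 2, 3, 5, 4, 2, 1, 5, 4, 2, 1, 3],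 [1, 2, 1, 4, 2, 1, 3, 5, 4, 2, 1, 5, 4, 2, 1, 2, 3, 4, 2], [0, 1, 2, 1, 2, 3, 5, 4, 2, 1, 2, 1, 6], [1, 4, 2, 6, 4, 2, 1, 2, 3, 2, 1, 4, 2, 1, 5, 4, 2, 5], [0, 3, 2, 1, 2, 3, 5, 4, 2, 1, 2, 3, 5], [0, 1, 2, 4, 2, 1, 2, 3, 2, 5, 4, 2, 1, 3, 2, 5, 4, 2, 1], [0, 3, 2, 1, 6, 4, 2, 3, 5, 4, 2, 1, 5, 4, 2, 3, 6], [0, 2, 3, 4, 2, 1, 2, 3, 5, 4, 2, 1, 2, 3, 5, 4, 2], [0, 3, 4, 2, 3, 6, 4, 2, 3, 5, 4], [2, 3, 2, 4, 2, 1, 2, 5, 4, 2, 1, 2, 1, 3, 5, 4, 2, 1, 2, 3], [0, 1, 3, 2, 1, 4, 2, 3, 6, 4, 2, 1, 6, 4, 2, 1, 3], [1, 3, 4, 2, 1, 5, 4, 2, 1, 5, 4, 2, 1, 3, 6, 4, 2, 1, 3, 2], [1, 4, 2, 1, 2, 3, 2, 1, 4, 2, 1, 6, 4, 2, 1, 6, 4, 2, 3, 5], [0, 3, 2, 4, 2, 1, 2,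 3, 5, 4, 2, 1, 2, 6, 4, 2, 3], [0, 2, 1, 2, 3, 4, 2, 1, 2], [0, 1, 6, 4, 2, 1, 2, 3, 2, 5, 4, 2, 1, 3, 2, 1, 5, 4, 6], [2, 1, 2, 1, 3, 2, 4, 2, 1, 3, 2, 1, 2, 6, 4, 5], [0, 1, 2, 1, 4, 2, 1, 3, 6, 4, 2, 1, 3, 5, 4, 2, 1, 5, 4, 2], [2, 1, 4, 2, 5, 4, 2, 1, 2, 1, 3, 5, 4, 2, 1, 3, 2, 4], [1, 3, 2, 4, 6, 4, 2, 1, 3, 2, 1, 2, 4, 2, 1, 2, 5], [1, 2, 1, 3, 2, 6, 4, 2, 1, 3, 2, 1, 2, 5, 4, 2], [0, 2, 1, 3, 2, 1, 4, 2, 3, 6, 4, 2, 1, 6, 4, 2, 1, 3, 2], [2, 1, 3, 2, 1, 2, 5, 4, 2, 1, 2, 1, 3, 2, 6, 4], [0, 1, 6, 4, 2, 3, 5, 4, 2, 1, 5, 4, 6], [0, 2, 1, 2, 1, 4, 2, 3, 5, 4, 2, 1, 5, 4, 2, 1, 2], [0, 1, 2, 1, 2, 3, 2, 4, 2, 1, 3, 2, 1], [0, 1, 3, 2, 1, 2, 3,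 5, 4, 2, 1, 2, 1, 3, 5], [0, 2, 3, 2, 1, 4, 2, 3, 6, 4, 2, 1, 3, 5, 4, 2, 3], [2, 1, 3, 4, 2, 5, 4, 2, 1, 3, 2, 1, 5, 4, 2, 1, 2, 4], [1, 2, 1, 2, 5, 4, 2, 1, 2, 1, 3, 2, 6, 4, 2, 3], [0, 1, 4, 2, 3, 5, 4, 2, 1, 5, 4], [0, 2, 3, 6, 4, 2, 6], [1, 2, 5, 4, 2, 1, 3, 2, 1, 2, 6, 4, 2, 1, 2, 3], [0, 3, 2, 1, 5, 4, 2, 3, 6, 4, 2, 1, 6, 4, 2, 3, 5]]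

def twW (a b c d k : F4) : List ℕ :=
  twL.getD (codeF k * 256 + codeF a + 4 * codeF b + 16 * codeF c + 64 * codeF d) []

theorem tw_ok : ∀ a b c d k : F4, prodM (twW a b c d k) = Cfsg.Agent.Helper2.Sp.T (vec a b c d) k := by
  decide +kernel

theorem tw_lt : ∀ w ∈ twL, ∀ l ∈ w, l < 7 := by decide +kernel

theorem tw_lt' : ∀ a b c d k : F4, ∀ l ∈ twW a b c d k, l < 7 := by decide +kernel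

/-- the symplectic matrix of a letter. -/
def gmS (l : ℕ) : S4 :=
  if h : l < 7 then ⟨mm l, SymplecticGroup.mem_iff.mpr (mm_mem l h)⟩ else 1

theorem gmS_val {l : ℕ} (h : l < 7) : ((gmS l : S4) : M4) = mm l := by
  unfold gmS
  rw [dif_pos h]

theorem coe_prodw (w : List ℕ) (hw : ∀ l ∈ w, l < 7) : ((prodw gmS w : S4) : M4) = prodM w := by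
  induction w with
  | nil => rfl
  | cons l w ih =>
    rw [prodw, prodM, ← ih (fun x hx => hw x (List.mem_cons_of_mem _ hx)),
      ← gmS_val (hw l (List.mem_cons_self ..))]
    rfl

theorem relsS : ∀ w ∈ SpP.rels, prodw gmS w = 1 := by
  intro w hw
  apply Subtype.ext
  rw [coe_prodw w (p_lt w hw), relsM w hw]
  rfl

/-- the homomorphism from the presented group to `Sp₄(𝔽₄)`. -/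
def beta : PG →* S4 := wgHom gmS p_lt relsS

theorem Tg_mem_range (v : Fin 2 ⊕ Fin 2 → F4) (c : F4) :
    Cfsg.Agent.Helper2.Sp.Tg v c ∈ beta.range := by
  have hv : v = vec (v (Sum.inl 0)) (v (Sum.inl 1)) (v (Sum.inr 0)) (v (Sum.inr 1)) := by
    funext x
    rcases x with x | x <;> fin_cases x <;> rfl
  have hlt := tw_lt' (v (Sum.inl 0)) (v (Sum.inl 1)) (v (Sum.inr 0)) (v (Sum.inr 1)) c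
  refine ⟨prodw gp (twW (v (Sum.inl 0)) (v (Sum.inl 1)) (v (Sum.inr 0)) (v (Sum.inr 1)) c), ?_⟩
  unfold beta gp
  rw [wgHom_prodw gmS p_lt relsS _ hlt]
  apply Subtype.ext
  rw [coe_prodw _ hlt, tw_ok, ← hv]
  rfl

theorem beta_surjective : Function.Surjective beta := by
  rw [← MonoidHom.range_eq_top, eq_top_iff, ← Cfsg.Agent.Helper2.Sp.TV_eq_top (Fin 2) F4]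
  unfold Cfsg.Agent.Helper2.Sp.TV
  rw [Subgroup.closure_le]
  rintro _ ⟨⟨v, c⟩, rfl⟩
  exact Tg_mem_range v c

theorem card_S4 : Nat.card S4 = 979200 := by
  rw [Cfsg.Agent.S0245.result F4.card_eq 2]
  decide

theorem card_PG : Nat.card PG = 979200 := by
  haveI := finPG
  have h := Nat.card_le_card_of_surjective _ beta_surjective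
  rw [card_S4] at h
  exact le_antisymm card_PG_le h

theorem beta_bijective : Function.Bijective beta := by
  haveI := finPG
  refine (Nat.bijective_iff_surjective_and_card beta).mpr ⟨beta_surjective, ?_⟩
  rw [card_PG, card_S4]

/-- `PG ≃* Sp₄(𝔽₄)`. -/
noncomputable def equivS : PG ≃* S4 := MulEquiv.ofBijective beta beta_bijective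

end Cfsg.Agent.Helper19.Sp4
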