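import Mathlib
import Cfsg.Agent.Helper19.Sp4.Mat
import Cfsg.Agent.Helper19.HeOrd.Simple
import Cfsg.Agent.Helper2.SpSimple
import Cfsg.Agent.S0246

/-! The subgroup `⟨a, c, d, e, f, (bcde)^7⟩` of the presented Held group is isomorphic to `Sp₄(𝔽₄)`
and has index 2 in the point stabiliser `Hs`. -/

set_option autoImplicit false
set_option linter.all false
set_option maxRecDepth 100000

noncomputable section

namespace Cfsg.Agent.Helper19.Sp4

open Cfsg.Spor Cfsg.Agent.Helper17 Cfsg.Agent.Helper17.HeTC Cfsg.Agent.Helper19.HeOrd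
open Cfsg.Agent.Helper19.TCS (WG wgc wgHom wgHom_wgc wgHom_prodw wgHom_range wg_rels_one)

/-! ### simplicity of `Sp₄(𝔽₄)` -/

theorem center_S4 : Subgroup.center S4 = ⊥ := by
  have h := Cfsg.Agent.S0246.result F4.card_eq 2 (by norm_num)
  have h1 : Nat.card (Subgroup.center S4) = 1 := by rw [h]; decide
  exact Subgroup.card_eq_one.mp h1

instance simple_S4 : IsSimpleGroup S4 := by
  haveI : IsSimpleGroup (Cfsg.PSp 2 F4) :=
    Cfsg.Agent.Helper2.Sp.PSp_isSimpleGroup 2 le_rfl (fun _ => by rw [F4.card_eq]; norm_num)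
  have hbij : Function.Bijective (QuotientGroup.mk' (Subgroup.center S4)) := by
    refine ⟨?_, QuotientGroup.mk'_surjective _⟩
    rw [← MonoidHom.ker_eq_bot_iff, QuotientGroup.ker_mk', center_S4]
  exact (MulEquiv.ofBijective _ hbij).isSimpleGroup

instance simple_PG : IsSimpleGroup PG := equivS.isSimpleGroup

/-! ### the homomorphism to the Held group -/

/-- the Held word of a letter. -/
def expand : ℕ → List ℕ
  | 0 => [0]
  | 1 => [2]
  | 2 => [3]
  | 3 => [4]
  | 4 => [5]
  | 5 => [1, 2, 3, 4, 1, 2, 3, 4, 1, 2, 3, 4, 1, 2, 3, 4, 1, 2, 3, 4, 1, 2, 3, 4, 1, 2, 3, 4]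
  | 6 => [4, 3, 2, 1, 4, 3, 2, 1, 4, 3, 2, 1, 4, 3, 2, 1, 4, 3, 2, 1, 4, 3, 2, 1, 4, 3, 2, 1]
  | _ => []

/-- the Held group element of a letter. -/
def fH (l : ℕ) : G := HeTC.prodw (expand l)

theorem prodw_fH (w : List ℕ) : TCS.prodw fH w = HeTC.prodw (w.flatMap expand) := by
  induction w with
  | nil => rfl
  | cons l w ih =>
    rw [TCS.prodw, List.flatMap_cons, pw_append, ih]
    rfl

theorem relsH_chk : ∀ w ∈ SpP.rels, chkBase (w.flatMap expand) = true := by decide +kernel

theorem relsH : ∀ w ∈ SpP.rels, TCS.prodw fH w = 1 := by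
  intro w hw
  rw [prodw_fH]
  exact prodw_eq_one (relsH_chk w hw)

/-- the homomorphism `PG →* He`. -/
def alpha : PG →* G := wgHom fH p_lt relsH

theorem alpha_gp {l : ℕ} (hl : l < 7) : alpha (gp l) = fH l := wgHom_wgc fH p_lt relsH hl

theorem fH_mem : ∀ l, l < 7 → fH l ∈ Hs := by
  intro l hl
  rw [← stab0]
  have hlt : ∀ x ∈ expand l, x < nl := by interval_cases l <;> decide
  unfold fH
  rw [phi_prodw_apply _ hlt]
  interval_cases l <;> decide +kernel

theorem range_le : alpha.range ≤ Hs := by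
  unfold alpha
  rw [wgHom_range fH p_lt relsH, Subgroup.closure_le]
  rintro _ ⟨l, hl, rfl⟩
  exact fH_mem l hl

theorem alpha_injective : Function.Injective alpha := by
  rw [← MonoidHom.ker_eq_bot_iff]
  rcases (MonoidHom.normal_ker alpha).eq_bot_or_eq_top with h | h
  · exact h
  · exfalso
    have h1 : gp 0 ∈ alpha.ker := by rw [h]; trivial
    rw [MonoidHom.mem_ker, alpha_gp (by norm_num)] at h1
    have h2 : phi (fH 0) 18 = 18 := by rw [h1, map_one]; rfl
    unfold fH at h2
    rw [phi_prodw_apply _ (by decide)] at h2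
    revert h2
    decide +kernel

theorem card_range : Nat.card alpha.range = 979200 := by
  rw [← Nat.card_congr (MonoidHom.ofInjective alpha_injective).toEquiv, card_PG]

/-- the subgroup of index 2 in the point stabiliser. -/
def Nsub : Subgroup ↥Hs := alpha.range.subgroupOf Hs

theorem index_Nsub : Nsub.index = 2 := by
  haveI := finG
  have h1 := Subgroup.card_mul_index Nsub
  have h2 : Nat.card Nsub = 979200 := by
    rw [← card_range]
    exact Nat.card_congr (Subgroup.subgroupOfEquivOfLe range_le).toEquiv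
  rw [h2, card_Hs] at h1
  omega

instance normal_Nsub : Nsub.Normal := Subgroup.normal_of_index_eq_two index_Nsub

/-- `Nsub ≃* Sp₄(𝔽₄)`. -/
def equivN : Nsub ≃* S4 :=
  ((Subgroup.subgroupOfEquivOfLe range_le).trans (MonoidHom.ofInjective alpha_injective).symm).trans
    equivS

end Cfsg.Agent.Helper19.Sp4
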