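import Mathlib
import Cfsg.Agent.Helper19.Sp4.He
import Cfsg.Prelude.Def_Sporadic

/-! The Held group as a permutation group on `Fin 2058`, with the subgroup `Sp₄(𝔽₄)` of index 2 in
the point stabiliser. -/

set_option autoImplicit false
set_option linter.all false
set_option maxRecDepth 100000

noncomputable section

namespace Cfsg.Agent.Helper19.Sp4

open Cfsg.Spor Cfsg.Agent.Helper17 Cfsg.Agent.Helper17.HeTC Cfsg.Agent.Helper19.HeOrd

/-- every element fixes the points `≥ 2058`. -/
theorem phi_ge (g : G) : ∀ i, 2058 ≤ i → phi g i = i := by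
  have hmem : g ∈ Subgroup.closure {g : G | ∃ l, l < nl ∧ g = gG l} := by rw [hgenG]; trivial
  induction hmem using Subgroup.closure_induction with
  | mem x hx =>
    obtain ⟨l, hl, rfl⟩ := hx
    intro i hi
    rw [phi_gG hl, σ_apply]
    exact sg_ge hi
  | one => intro i _; simp
  | mul x y _ _ hx hy =>
    intro i hi
    rw [map_mul, Equiv.Perm.mul_apply, hy i hi, hx i hi]
  | inv x _ hx =>
    intro i hi
    rw [map_inv, Equiv.Perm.inv_eq_iff_eq, hx i hi]

theorem phi_lt (g : G) {i : ℕ} (hi : i < 2058) : phi g i < 2058 := by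
  by_contra h
  have h1 := phi_ge g _ (not_lt.mp h)
  have h2 := (phi g).injective h1
  omega

instance actFin : MulAction G (Fin 2058) where
  smul g x := ⟨phi g x.1, phi_lt g x.2⟩
  one_smul x := by
    apply Fin.ext
    show phi 1 x.1 = x.1
    rw [map_one, Equiv.Perm.one_apply]
  mul_smul g h x := by
    apply Fin.ext
    show phi (g * h) x.1 = phi g (phi h x.1)
    rw [map_mul, Equiv.Perm.mul_apply]

theorem smul_val (g : G) (x : Fin 2058) : (g • x).1 = phi g x.1 := rfl

/-- the permutation representation on `Fin 2058`. -/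
def rho : G →* Equiv.Perm (Fin 2058) := MulAction.toPermHom G (Fin 2058)

theorem rho_apply (g : G) (x : Fin 2058) : rho g x = g • x := rfl

theorem rho_injective : Function.Injective rho := by
  rw [injective_iff_map_eq_one]
  intro g hg
  apply phi_injective
  rw [map_one]
  ext i
  rw [Equiv.Perm.one_apply]
  by_cases hi : i < 2058
  · have h1 : rho g ⟨i, hi⟩ = ⟨i, hi⟩ := by rw [hg]; rfl
    have h2 := congrArg Fin.val h1
    rw [rho_apply, smul_val] at h2
    exact h2
  · exact phi_ge g i (not_lt.mp hi)

/-- the Held group inside `Perm (Fin 2058)`. -/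
def HeP : Subgroup (Equiv.Perm (Fin 2058)) := rho.range

def equivHeP : G ≃* HeP := MonoidHom.ofInjective rho_injective

theorem equivHeP_val (g : G) : ((equivHeP g : HeP) : Equiv.Perm (Fin 2058)) = rho g := rfl

theorem isHe_HeP : Cfsg.IsHe HeP := by
  haveI : IsSimpleGroup G := isSimple
  refine ⟨equivHeP.symm.isSimpleGroup, ?_⟩
  rw [← Nat.card_congr equivHeP.toEquiv, card_G]

theorem pretransitive_HeP : MulAction.IsPretransitive HeP (Fin 2058) := by
  have h0 : ∀ x : Fin 2058, ∃ h : HeP, h • (0 : Fin 2058) = x := by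
    intro x
    obtain ⟨g, hg⟩ := trans0 (p := x.1) x.2
    refine ⟨equivHeP g, ?_⟩
    rw [Subgroup.smul_def, Equiv.Perm.smul_def, equivHeP_val, rho_apply]
    apply Fin.ext
    rw [smul_val]
    exact hg
  constructor
  intro x y
  obtain ⟨hx, rfl⟩ := h0 x
  obtain ⟨hy, rfl⟩ := h0 y
  exact ⟨hy * hx⁻¹, by rw [mul_smul, inv_smul_smul]⟩

/-- the point stabiliser, mapped back to the presented group. -/
def psi : ↥(MulAction.stabilizer HeP (0 : Fin 2058)) →* G :=
  equivHeP.symm.toMonoidHom.comp (MulAction.stabilizer HeP (0 : Fin 2058)).subtype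

theorem psi_injective : Function.Injective psi := by
  unfold psi
  exact equivHeP.symm.injective.comp (Subgroup.subtype_injective _)

theorem psi_range : psi.range = Hs := by
  ext g
  constructor
  · rintro ⟨⟨h, hh⟩, rfl⟩
    rw [← stab0]
    have h1 : h = equivHeP (equivHeP.symm h) := (equivHeP.apply_symm_apply h).symm
    rw [MulAction.mem_stabilizer_iff] at hh
    have h2 : ((h : HeP) : Equiv.Perm (Fin 2058)) 0 = 0 := hh
    rw [h1, equivHeP_val, rho_apply] at h2
    have h3 := congrArg Fin.val h2
    rw [smul_val] at h3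
    exact h3
  · intro hg
    have hst : equivHeP g ∈ MulAction.stabilizer HeP (0 : Fin 2058) := by
      rw [MulAction.mem_stabilizer_iff]
      show ((equivHeP g : HeP) : Equiv.Perm (Fin 2058)) 0 = 0
      rw [equivHeP_val, rho_apply]
      apply Fin.ext
      rw [smul_val]
      exact stab0.mpr hg
    refine ⟨⟨equivHeP g, hst⟩, ?_⟩
    show equivHeP.symm (equivHeP g) = g
    exact equivHeP.symm_apply_apply g

/-- the subgroup `Sp₄(4)` of the point stabiliser. -/
def NP : Subgroup ↥(MulAction.stabilizer HeP (0 : Fin 2058)) := alpha.range.comap psi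

theorem index_NP : NP.index = 2 := by
  unfold NP
  rw [Subgroup.index_comap, psi_range]
  exact index_Nsub

def equivNP : NP ≃* S4 := by
  have h1 : (alpha.range.comap psi).map psi = alpha.range :=
    Subgroup.map_comap_eq_self (by rw [psi_range]; exact range_le)
  exact (((alpha.range.comap psi).equivMapOfInjective psi psi_injective).trans
    (MulEquiv.subgroupCongr h1)).trans
      ((MonoidHom.ofInjective alpha_injective).symm.trans equivS)

end Cfsg.Agent.Helper19.Sp4
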